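import Groth.Agent.StChart.Chart
import Groth.Agent.AlgStLib.SmoothBootstrap
import Groth.Agent.AlgStLib.FieldImage
import Groth.Agent.AlgStLib.LocEss
import Groth.Agent.S18325
import Groth.Agent.AlgStLib.SmoothSubstack

/-!
# Lifting points over Henselian local rings to a chart catching all field-valued points
-/

set_option autoImplicit false
set_option backward.isDefEq.respectTransparency false
set_option backward.isDefEq.respectTransparency.types false

universe u

open CategoryTheory CategoryTheory.Functor CategoryTheory.Limits Opposite AlgebraicGeometry AlgSp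
open Groth.Agent.FibBase Groth.Agent.AlgSpLib Groth.Agent.AlgStLib Groth.Agent.AlgSpDec

namespace Groth.Agent.StChart

variable {S : Scheme.{u}} {𝒵 : AlgSt.Cat S}

theorem isAlgStack_etale_of_fppf (h : AlgSt.IsAlgStack Scheme.fppfPrecoverage 𝒵) :
    AlgSt.IsAlgStack Scheme.etalePrecoverage 𝒵 :=
  ⟨isStack_etale_of_fppf h.isStack, h.diag, h.atlas⟩

/-- A smooth chart catching all field-valued points catches all points over Henselian local rings. -/
theorem exists_lift_henselian (h𝒵 : AlgSt.IsAlgStack Scheme.fppfPrecoverage 𝒵) {Z : Over S}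
    {p : FibCat.overCat Z ⥤ᵇ 𝒵} (hp : AlgSt.RepByAlgSpWith (LocP @Smooth) p)
    (hlift : ∀ (k : Type u) [Field k] (str : Spec (CommRingCat.of k) ⟶ S)
      (z : FibCat.overCat (Over.mk str) ⥤ᵇ 𝒵),
        ∃ y : Over.mk str ⟶ Z, Nonempty (BasedFunctor.comp (AlgSt.overMap y) p ≅ z))
    (A : Type u) [CommRing A] [HenselianLocalRing A] (str : Spec (CommRingCat.of A) ⟶ S)
    (z : FibCat.overCat (Over.mk str) ⥤ᵇ 𝒵) :
    ∃ g : Over.mk str ⟶ Z, Nonempty (BasedFunctor.comp (AlgSt.overMap g) p ≅ z) := by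
  let cO : Over.mk (Spec.map (CommRingCat.ofHom (IsLocalRing.residue A)) ≫ str) ⟶ Over.mk str :=
    Over.homMk (Spec.map (CommRingCat.ofHom (IsLocalRing.residue A))) rfl
  obtain ⟨y₀, ⟨i₀⟩⟩ := hlift (IsLocalRing.ResidueField A)
    (Spec.map (CommRingCat.ofHom (IsLocalRing.residue A)) ≫ str) (BasedFunctor.comp (AlgSt.overMap cO) z)
  obtain ⟨z', -, ⟨i⟩⟩ := Groth.Agent.S18325.result 𝒵 h𝒵 ⟨(yon S).obj Z, IsAlgSpace.yon_obj Z⟩
    (BasedFunctor.comp (AlgSt.toOverCat Z) p) (repByAlgSpWith_precomp (isEquivOver_toOverCat Z) hp) A str z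
    ((yon S).map y₀) ⟨whiskerRightIso (FieldImg.overOfMapIso y₀) p ≪≫ i₀⟩
  obtain ⟨g, rfl⟩ := (yon S).map_surjective z'
  exact ⟨g, ⟨whiskerRightIso (FieldImg.overOfMapIso g).symm p ≪≫ i⟩⟩

/-- Restricting a smooth chart to an affine open through which a point over a local ring factors. -/
theorem exists_affine_chart {Z : Over S} {p : FibCat.overCat Z ⥤ᵇ 𝒵}
    (hp : AlgSt.RepByAlgSpWith (LocP @Smooth) p) {R : Type u} [CommRing R] [IsLocalRing R]
    {str : Spec (CommRingCat.of R) ⟶ S} {z : FibCat.overCat (Over.mk str) ⥤ᵇ 𝒵} (g : Over.mk str ⟶ Z)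
    (i : BasedFunctor.comp (AlgSt.overMap g) p ≅ z) :
    ∃ (U : Over S) (_ : IsAffine U.left) (p' : FibCat.overCat U ⥤ᵇ 𝒵) (u : Over.mk str ⟶ U),
      AlgSt.RepByAlgSpWith (LocP @Smooth) p' ∧
        Nonempty (BasedFunctor.comp (AlgSt.overMap u) p' ≅ z) := by
  obtain ⟨W, g', hW, hg⟩ := Hens.exists_affine_factor g
  let j : Over.mk (W.ι ≫ Z.hom) ⟶ Z := Over.homMk W.ι rfl
  have : Smooth j.left := inferInstanceAs (Smooth W.ι)
  exact ⟨Over.mk (W.ι ≫ Z.hom), hW, BasedFunctor.comp (AlgSt.overMap j) p, g',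
    repByAlgSpWith_locP_comp (isFibGrpd_overCat _) (isFibGrpd_overCat Z)
      (repByAlgSpWith_overMap stableBC_locP (smooth_map_of_left j ‹_›)) hp,
    ⟨whiskerRightIso (overMapCompIso g' j ≪≫ eqToIso (congrArg AlgSt.overMap hg)) p ≪≫ i⟩⟩

end Groth.Agent.StChart

namespace Groth.Agent.StChart

variable {S : Scheme.{u}} {𝒵 : AlgSt.Cat S}

/-- A smooth chart catching all field-valued points catches all points over quotients of a Henselian local ring. -/
theorem exists_lift_quotient (h𝒵 : AlgSt.IsAlgStack Scheme.fppfPrecoverage 𝒵) {Z : Over S}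
    {p : FibCat.overCat Z ⥤ᵇ 𝒵} (hp : AlgSt.RepByAlgSpWith (LocP @Smooth) p)
    (hlift : ∀ (k : Type u) [Field k] (str : Spec (CommRingCat.of k) ⟶ S)
      (z : FibCat.overCat (Over.mk str) ⥤ᵇ 𝒵),
        ∃ y : Over.mk str ⟶ Z, Nonempty (BasedFunctor.comp (AlgSt.overMap y) p ≅ z))
    (R : Type u) [CommRing R] [HenselianLocalRing R] (a : Ideal R) (str : Spec (CommRingCat.of (R ⧸ a)) ⟶ S)
    (x : FibCat.overCat (Over.mk str) ⥤ᵇ 𝒵) :
    ∃ g : Over.mk str ⟶ Z, Nonempty (BasedFunctor.comp (AlgSt.overMap g) p ≅ x) := by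
  rcases subsingleton_or_nontrivial (R ⧸ a) with hs | hn
  · have : IsEmpty (Over.mk str).left := inferInstanceAs (IsEmpty (PrimeSpectrum (R ⧸ a)))
    let g : Over.mk str ⟶ Z :=
      Over.homMk ((isInitialOfIsEmpty (X := (Over.mk str).left)).to Z.left) (isInitialOfIsEmpty.hom_ext _ _)
    have hR : (⊥ : Sieve (Over.mk str)) ∈ J S (Over.mk str) := mem_J_of_openCover
      (Scheme.openCoverOfIsOpenCover (Over.mk str).left (fun i : PEmpty.{u + 1} => i.elim)
        (TopologicalSpace.Opens.ext (Set.eq_univ_of_forall fun x => isEmptyElim x).symm |>.symm)) _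
      fun i => i.elim
    have heq : (Stk.resSieve (⊥ : Sieve (Over.mk str)) 𝒵).IsEquivalence := h𝒵.isStack.2 _ hR
    refine ⟨g, StkLib.exists_iso_of_resSieve (R := ⊥) ⟨inferInstance, inferInstance⟩ _ _ ?_⟩
    exact BasedNatIso.mkNatIso
      (NatIso.ofComponents (fun y => False.elim y.property) fun {y} _ _ => False.elim y.property)
      fun y => False.elim y.property
  · have := IsLocalRing.of_surjective' (Ideal.Quotient.mk a) Ideal.Quotient.mk_surjective
    have := Hensel.henselianLocalRing_of_finite R (R ⧸ a)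
    exact exists_lift_henselian h𝒵 hp hlift (R ⧸ a) str x

end Groth.Agent.StChart

namespace Groth.Agent.StChart

variable {S : Scheme.{u}} {𝒵 : AlgSt.Cat S}

/-- A smooth chart of a stack which is smooth over the base scheme is a smooth scheme over the base scheme. -/
theorem smooth_hom_of_chart (h𝒵 : AlgSt.IsAlgStack Scheme.fppfPrecoverage 𝒵)
    (hsm : AlgSt.LocQ (LocP @Smooth) (FibCat.toSelf 𝒵)) {Z : Over S} {p : FibCat.overCat Z ⥤ᵇ 𝒵}
    (hp : AlgSt.RepByAlgSpWith (LocP @Smooth) p) : Smooth Z.hom := by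
  let T₀ : Over S := Over.mk (𝟙 S)
  let hT : IsTerminal T₀ := Over.mkIdTerminal
  let E := FibCat.toSelf (FibCat.overCat T₀ : AlgSt.Cat S)
  have hfull : E.toFunctor.Full := ⟨fun {x y} g => ⟨Over.homMk g (hT.hom_ext _ _), rfl⟩⟩
  have hfaith : E.toFunctor.Faithful := ⟨fun h => Over.OverMorphism.ext h⟩
  have hE : FibCat.IsEquivOver E := isEquivOver_of_exists_iso _ hfull hfaith fun η =>
    ⟨Over.mk (hT.from η), Iso.refl _, IsHomLift.id rfl⟩
  have : (BasedFunctor.id (FibCat.selfOver (Over S) : AlgSt.Cat S)).toFunctor.Full :=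
    inferInstanceAs (𝟭 _).Full
  have : (BasedFunctor.id (FibCat.selfOver (Over S) : AlgSt.Cat S)).toFunctor.Faithful :=
    inferInstanceAs (𝟭 _).Faithful
  let m := fpMap (F := FibCat.toSelf 𝒵) (G := BasedFunctor.id (FibCat.selfOver (Over S) : AlgSt.Cat S))
    (F' := FibCat.toSelf 𝒵) (G' := E) (a := BasedFunctor.id _) (b := E)
    (c := BasedFunctor.id _) (Iso.refl _) (Iso.refl _)
  have hm : FibCat.IsEquivOver m := fpMap_isEquivOver _ _ isEquivOver_id hE
  have hfst : FibCat.IsEquivOver (BasedFunctor.comp m (FibCat.fpFst _ _)) :=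
    isEquivOver_comp hm (fpFst_id_isEquivOver _)
  obtain ⟨G, hG, ⟨i⟩, -⟩ := isEquivOver_inv hfst
  let h : Z ⟶ T₀ := Over.homMk Z.hom (Category.comp_id _)
  let c : FibCat.overCat Z ⥤ᵇ FibCat.fp (FibCat.toSelf 𝒵) E := FibCat.fpLift p (AlgSt.overMap h)
    (eqToIso ((eq_toSelf _).trans (eq_toSelf _).symm))
  have hc : AlgSt.RepByAlgSpWith (LocP @Smooth) c :=
    repByAlgSpWith_of_iso (whiskerLeftIso c i) (repByAlgSpWith_postcomp hG hp)
  have hh := (locQS_of_locQ isSmoothLocalST_smooth h𝒵.isStack.1 isFibGrpd_selfOver hsm).scheme c (repByAlgSpWith_smooth_of_isEquivOver hE) hc (h := h) (Iso.refl _)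
  exact smooth_left_of_map h hh

end Groth.Agent.StChart
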