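import Groth.Agent.StChart.Res
import Groth.Agent.AlgStLib.Bootstrap
import Groth.Agent.AlgStLib.Yoneda
import Groth.Agent.StkLib.Sieves
import Groth.Agent.FibBase.Setoid

/-!
# The stack of points with lifts to a chart along a finite etale cover
-/

set_option autoImplicit false
set_option backward.isDefEq.respectTransparency false
set_option backward.isDefEq.respectTransparency.types false

universe u

open CategoryTheory CategoryTheory.Functor CategoryTheory.Limits Opposite AlgebraicGeometry AlgSp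
open Groth.Agent.FibBase Groth.Agent.AlgSpLib Groth.Agent.AlgStLib

namespace Groth.Agent.StChart

variable {S : Scheme.{u}} {𝒵 : AlgSt.Cat S} [h𝒵 : FibCat.IsFibGrpd 𝒵.p]

/-- The value of a functor from a slice at a triangle. -/
abbrev hm {U : Over S} (G : FibCat.overCat U ⥤ᵇ 𝒵) {A B : Over S} (g : A ⟶ B) {a : A ⟶ U} {b : B ⟶ U}
    (w : g ≫ b = a) : G.obj (Over.mk a) ⟶ G.obj (Over.mk b) :=
  G.map (Over.homMk g w)

omit h𝒵 in
theorem hm_lift {U : Over S} (G : FibCat.overCat U ⥤ᵇ 𝒵) {A B : Over S} (g : A ⟶ B) {a : A ⟶ U} {b : B ⟶ U}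
    (w : g ≫ b = a) : 𝒵.p.IsHomLift g (hm G g w) :=
  overMap_isHomLift G (Over.homMk g w : Over.mk a ⟶ Over.mk b)

omit h𝒵 in
theorem hm_id {U : Over S} (G : FibCat.overCat U ⥤ᵇ 𝒵) {A : Over S} (a : A ⟶ U) (w : 𝟙 A ≫ a = a) :
    hm G (𝟙 A) w = 𝟙 _ :=
  (congrArg G.map (Over.OverMorphism.ext rfl : (Over.homMk (𝟙 A) w : Over.mk a ⟶ Over.mk a) = 𝟙 _)).trans
    (G.toFunctor.map_id _)

omit h𝒵 in
theorem hm_comp {U : Over S} (G : FibCat.overCat U ⥤ᵇ 𝒵) {A B C : Over S} (g : A ⟶ B) (g' : B ⟶ C)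
    {a : A ⟶ U} {b : B ⟶ U} {c : C ⟶ U} (w : g ≫ b = a) (w' : g' ≫ c = b) (g'' : A ⟶ C) (e : g ≫ g' = g'') :
    hm G g w ≫ hm G g' w' = hm G g'' (by rw [← e, Category.assoc, w', w]) := by
  subst e
  rw [← G.toFunctor.map_comp]
  exact congrArg G.map (Over.OverMorphism.ext rfl)

/-- Lifts with the same composite with a lift are equal. -/
theorem cancel_lift {A B C : Over S} {a b c : 𝒵.obj} (k : B ⟶ C) (φ : b ⟶ c) [𝒵.p.IsHomLift k φ] (g : A ⟶ B)
    {χ χ' : a ⟶ b} [𝒵.p.IsHomLift g χ] [𝒵.p.IsHomLift g χ'] (e : χ ≫ φ = χ' ≫ φ) : χ = χ' :=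
  have := isSC (hp := h𝒵) k φ
  IsStronglyCartesian.ext 𝒵.p k φ g e

/-- Lifts factor through lifts. -/
theorem exists_factor {A B C : Over S} {a b c : 𝒵.obj} (k : B ⟶ C) (φ : b ⟶ c) [𝒵.p.IsHomLift k φ] (g : A ⟶ B)
    (j : A ⟶ C) (e : g ≫ k = j) (t : a ⟶ c) [𝒵.p.IsHomLift j t] :
    ∃ χ : a ⟶ b, 𝒵.p.IsHomLift g χ ∧ χ ≫ φ = t :=
  have := isSC (hp := h𝒵) k φ
  ⟨IsStronglyCartesian.map 𝒵.p k φ e.symm t, inferInstance, IsStronglyCartesian.fac 𝒵.p k φ e.symm t⟩

variable {X V : Over S} (x : FibCat.overCat X ⥤ᵇ 𝒵) (y : FibCat.overCat V ⥤ᵇ 𝒵)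

/-- Points of the fibre product of two slices. -/
structure Tri (W : Over S) : Type (u + 1) where
  /-- the first point -/
  t : W ⟶ V
  /-- the second point -/
  u : W ⟶ X
  /-- the comparison -/
  ι : x.obj (Over.mk u) ⟶ y.obj (Over.mk t)
  hι : 𝒵.p.IsHomLift (𝟙 W) ι

variable {x y}

omit h𝒵 in
theorem Tri.ext' {W : Over S} {a b : Tri x y W} (ht : a.t = b.t) (hu : a.u = b.u)
    (hι : a.ι ≫ hm y (𝟙 W) ((Category.id_comp _).trans ht.symm) =
      hm x (𝟙 W) ((Category.id_comp _).trans hu.symm) ≫ b.ι) : a = b := by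
  obtain ⟨t, u, ι, h⟩ := a
  obtain ⟨t', u', ι', h'⟩ := b
  obtain rfl : t = t' := ht
  obtain rfl : u = u' := hu
  have e : ι = ι' := by
    have := hι
    rw [hm_id, hm_id, Category.comp_id, Category.id_comp] at this
    exact this
  subst e
  rfl

variable (x y)

theorem exists_triRes {W W' : Over S} (g : W' ⟶ W) (a : Tri x y W) :
    ∃ b : Tri x y W', ∃ (ht : g ≫ a.t = b.t) (hu : g ≫ a.u = b.u), b.ι ≫ hm y g ht = hm x g hu ≫ a.ι := by
  have := hm_lift y g (rfl : g ≫ a.t = g ≫ a.t)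
  have := hm_lift x g (rfl : g ≫ a.u = g ≫ a.u)
  have := a.hι
  have : 𝒵.p.IsHomLift g (hm x g (rfl : g ≫ a.u = g ≫ a.u) ≫ a.ι) := IsHomLift.comp_lift_id_right' 𝒵.p g _ W a.ι
  obtain ⟨χ, hχ, e⟩ := exists_factor g (hm y g (rfl : g ≫ a.t = g ≫ a.t)) (𝟙 W') g (Category.id_comp g)
    (hm x g (rfl : g ≫ a.u = g ≫ a.u) ≫ a.ι)
  exact ⟨⟨g ≫ a.t, g ≫ a.u, χ, hχ⟩, rfl, rfl, e⟩

variable {x y}

theorem tri_unique {W W' : Over S} (g : W' ⟶ W) {a : Tri x y W} {b b' : Tri x y W'}
    (ht : g ≫ a.t = b.t) (hu : g ≫ a.u = b.u) (e : b.ι ≫ hm y g ht = hm x g hu ≫ a.ι)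
    (ht' : g ≫ a.t = b'.t) (hu' : g ≫ a.u = b'.u) (e' : b'.ι ≫ hm y g ht' = hm x g hu' ≫ a.ι) : b = b' := by
  refine Tri.ext' (ht.symm.trans ht') (hu.symm.trans hu') ?_
  have := hm_lift y g ht'
  have := b.hι
  have := b'.hι
  have := hm_lift y (𝟙 W') ((Category.id_comp b'.t).trans (ht'.symm.trans ht))
  have := hm_lift x (𝟙 W') ((Category.id_comp b'.u).trans (hu'.symm.trans hu))
  refine cancel_lift g (hm y g ht') (𝟙 W') ?_
  rw [Category.assoc, hm_comp y (𝟙 W') g _ ht' g (Category.id_comp g), e, Category.assoc, e', ← Category.assoc,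
    hm_comp x (𝟙 W') g _ hu' g (Category.id_comp g)]

variable (x y)

/-- The presheaf of points of the fibre product. -/
noncomputable def triPsh : PSp S where
  obj W := Tri x y W.unop
  map g := ↾fun a => (exists_triRes x y g.unop a).choose
  map_id W := by
    ext a
    obtain ⟨ht, hu, e⟩ := (exists_triRes x y (𝟙 W.unop) a).choose_spec
    refine tri_unique (𝟙 W.unop) ht hu e (Category.id_comp _) (Category.id_comp _) ?_
    rw [hm_id, hm_id]
    exact (Category.comp_id _).trans (Category.id_comp _).symm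
  map_comp {W W' W''} f g := by
    ext a
    obtain ⟨ht, hu, e⟩ := (exists_triRes x y (f ≫ g).unop a).choose_spec
    obtain ⟨ht₁, hu₁, e₁⟩ := (exists_triRes x y f.unop a).choose_spec
    obtain ⟨ht₂, hu₂, e₂⟩ := (exists_triRes x y g.unop (exists_triRes x y f.unop a).choose).choose_spec
    refine tri_unique (f ≫ g).unop ht hu e (b' := (exists_triRes x y g.unop (exists_triRes x y f.unop a).choose).choose)
      ((Category.assoc _ _ _).trans ((congrArg (g.unop ≫ ·) ht₁).trans ht₂))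
      ((Category.assoc _ _ _).trans ((congrArg (g.unop ≫ ·) hu₁).trans hu₂)) ?_
    rw [← hm_comp y g.unop f.unop ht₂ ht₁ (f ≫ g).unop rfl, ← hm_comp x g.unop f.unop hu₂ hu₁ (f ≫ g).unop rfl,
      reassoc_of% e₂, e₁, Category.assoc]

theorem triPsh_map {W W' : Over S} (g : W' ⟶ W) (a : Tri x y W) :
    ∃ (ht : g ≫ a.t = ((triPsh x y).map g.op a : Tri x y W').t) (hu : g ≫ a.u = ((triPsh x y).map g.op a : Tri x y W').u),
      ((triPsh x y).map g.op a : Tri x y W').ι ≫ hm y g ht = hm x g hu ≫ a.ι :=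
  (exists_triRes x y g a).choose_spec

/-- The first point. -/
noncomputable def triQ : triPsh x y ⟶ (pyon S).obj V where
  app W := ↾fun a => ⟨Tri.t a⟩
  naturality W W' g := by
    ext a
    exact congrArg ULift.up (triPsh_map x y g.unop a).1.symm

/-- The comparison as an isomorphism. -/
noncomputable def triE {W : Over S} (a : Tri x y W) : y.obj (Over.mk a.t) ≅ x.obj (Over.mk a.u) :=
  have := a.hι
  haveI : IsIso a.ι := isIso_of_lift (hp := h𝒵) (𝟙 W) a.ι
  (asIso a.ι).symm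

theorem triE_inv {W : Over S} (a : Tri x y W) : (triE x y a).inv = a.ι := rfl

theorem triE_lift {W : Over S} (a : Tri x y W) : 𝒵.p.IsHomLift (𝟙 W) (triE x y a).hom := by
  have := a.hι
  haveI : IsIso a.ι := isIso_of_lift (hp := h𝒵) (𝟙 W) a.ι
  exact IsHomLift.lift_id_inv_isIso 𝒵.p W a.ι

/-- The functor to the fibre product. -/
noncomputable def triToFp : Stk.ofPsh (triPsh x y) ⥤ᵇ FibCat.fp y x where
  toFunctor :=
    { obj := fun ξ => ⟨{ fst := Over.mk (Tri.t ξ.sec), snd := Over.mk (Tri.u ξ.sec)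
                         iso := triE x y ξ.sec }, triE_lift x y ξ.sec⟩
      map := fun {ξ η} φ =>
        ObjectProperty.homMk
          { fst := Over.homMk φ.hom (by
              obtain ⟨g, hg⟩ := φ
              exact (triPsh_map x y g η.sec).1.trans (congrArg Tri.t hg))
            snd := Over.homMk φ.hom (by
              obtain ⟨g, hg⟩ := φ
              exact (triPsh_map x y g η.sec).2.1.trans (congrArg Tri.u hg))
            w := by
              obtain ⟨T, s⟩ := ξ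
              obtain ⟨g, hg⟩ := φ
              change T ⟶ η.base at g
              dsimp only at hg
              obtain ⟨h1, h2, h3⟩ := triPsh_map x y g η.sec
              generalize e' : ((triPsh x y).map g.op η.sec : Tri x y T) = s' at h1 h2 h3
              obtain rfl : s' = s := e'.symm.trans hg
              rw [← cancel_mono (triE x y η.sec).inv, Category.assoc, Category.assoc, Iso.hom_inv_id, Category.comp_id,
                ← Iso.inv_comp_eq, triE_inv, triE_inv]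
              exact h3 }
      map_id := fun ξ => ObjectProperty.hom_ext _ (CategoricalPullback.hom_ext (Over.OverMorphism.ext rfl)
        (Over.OverMorphism.ext rfl))
      map_comp := fun φ ψ => ObjectProperty.hom_ext _ (CategoricalPullback.hom_ext (Over.OverMorphism.ext rfl)
        (Over.OverMorphism.ext rfl)) }
  w := rfl

theorem triToFp_isEquivOver : FibCat.IsEquivOver (triToFp x y) := by
  refine isEquivOver_of_exists_iso _ ⟨fun {ξ η} φ => ?_⟩ ⟨fun {ξ η} φ φ' e => ?_⟩ fun o => ?_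
  · have hl : φ.hom.snd.left = φ.hom.fst.left := by
      have h0 : (FibCat.overCat X).p.IsHomLift φ.hom.fst.left φ.hom.snd := FibCat.fp_isHomLift_snd y x φ
      have h := IsHomLift.fac' (FibCat.overCat X).p φ.hom.fst.left φ.hom.snd
      exact h.trans (by simp)
    obtain ⟨h1, h2, h3⟩ := triPsh_map x y φ.hom.fst.left η.sec
    have h1' : φ.hom.fst.left ≫ Tri.t η.sec = Tri.t ξ.sec := Over.w φ.hom.fst
    have h2' : φ.hom.fst.left ≫ Tri.u η.sec = Tri.u ξ.sec :=
      (congrArg (· ≫ Tri.u η.sec) hl.symm).trans (Over.w φ.hom.snd)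
    have h3' : Tri.ι ξ.sec ≫ hm y φ.hom.fst.left h1' = hm x φ.hom.fst.left h2' ≫ Tri.ι η.sec := by
      rw [← triE_inv, ← triE_inv, Iso.inv_comp_eq, ← Category.assoc, Iso.eq_comp_inv]
      exact φ.hom.w.trans (congrArg (_ ≫ x.map ·) (Over.OverMorphism.ext hl))
    refine ⟨⟨φ.hom.fst.left, tri_unique _ h1 h2 h3 h1' h2' h3'⟩, ?_⟩
    exact ObjectProperty.hom_ext _ (CategoricalPullback.hom_ext (Over.OverMorphism.ext rfl)
      (Over.OverMorphism.ext hl.symm))
  · exact Stk.EltObj.hom_ext (congrArg (fun f : (triToFp x y).obj ξ ⟶ (triToFp x y).obj η => f.hom.fst.left) e)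
  · obtain ⟨⟨a, b, i⟩, hi⟩ := o
    have hi' : 𝒵.p.IsHomLift (𝟙 (Over.left a)) i.hom := hi
    have hb : Over.left b = Over.left a := (x.w_obj b).symm.trans (IsHomLift.codomain_eq 𝒵.p (𝟙 (Over.left a)) i.hom)
    obtain ⟨bl, br, bh⟩ := b
    change bl = Over.left a at hb
    subst hb
    let τ : Tri x y (Over.left a) := ⟨a.hom, bh, i.inv, IsHomLift.lift_id_inv 𝒵.p (Over.left a) i⟩
    have hτ : (triE x y τ).inv = i.inv := rfl
    refine ⟨⟨Over.left a, τ⟩, ObjectProperty.isoMk _ (CategoricalPullback.mkIso (Iso.refl _) (Iso.refl _) ?_), ?_⟩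
    · show y.map (𝟙 _) ≫ i.hom = (triE x y τ).hom ≫ x.map (𝟙 _)
      rw [y.toFunctor.map_id, x.toFunctor.map_id]
      refine (Category.id_comp _).trans (Eq.trans ?_ (Category.comp_id _).symm)
      exact congrArg Iso.hom (Iso.ext_inv hτ).symm
    · apply isHomLift_id_of_map_eq (p := (FibCat.fp y x).p)
      all_goals first | rfl | exact Category.id_comp _

/-- The fibre product of two slices is a space, with the property of the second map. -/
theorem tri_space {P : MorphismProperty (Sp S)} (hP : StableBC P) (hx : AlgSt.RepByAlgSpWith P x) :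
    ∃ h : Presheaf.IsSheaf (J S) (triPsh x y), IsAlgSpace (⟨_, h⟩ : Sp S) ∧
      P (ObjectProperty.homMk (triQ x y) : (⟨_, h⟩ : Sp S) ⟶ (yon S).obj V) := by
  obtain ⟨F₀, e₀, he₀, -⟩ := hx V y
  obtain ⟨g, hg, -⟩ := isEquivOver_inv (triToFp_isEquivOver x y)
  have := isIso_pshMap (Φ := BasedFunctor.comp e₀ g) (isEquivOver_comp he₀ hg)
  obtain ⟨h, -⟩ := ((isAlgSpaceP_obj_iff _).2 F₀.property).of_iso (asIso (pshMap (BasedFunctor.comp e₀ g)))
  obtain ⟨hA, hp⟩ := RepOver.property_of_stableBC hP (hx V y) (F := (⟨_, h⟩ : Sp S)) (triToFp x y)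
    (triToFp_isEquivOver x y)
  refine ⟨h, hA, ?_⟩
  convert hp using 1
  refine ObjectProperty.hom_ext _ (NatTrans.ext (funext fun W => ?_))
  ext a
  exact congrArg ULift.up (Category.id_comp _).symm

end Groth.Agent.StChart
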