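import Groth.Agent.Hensel.EtaleResidueExt
import Groth.Agent.AlgSpLib.Sheaf
import Mathlib.RingTheory.Polynomial.Resultant.Basic
import Mathlib.RingTheory.Smooth.Basic
import Mathlib.AlgebraicGeometry.AffineSpace
import Mathlib.AlgebraicGeometry.Morphisms.Finite
import Mathlib.AlgebraicGeometry.Morphisms.Smooth
import Mathlib.AlgebraicGeometry.Morphisms.Etale

/-!
# The universal monic separable polynomial
-/

set_option autoImplicit false
set_option backward.isDefEq.respectTransparency false
set_option backward.isDefEq.respectTransparency.types false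

universe u

open CategoryTheory Limits AlgebraicGeometry Polynomial

namespace Groth.Agent.StChart

variable (n : ℕ)

/-- The ring of coefficients. -/
abbrev R0 : Type u := MvPolynomial (Fin (n + 1)) (ULift.{u} ℤ)

/-- The generic monic polynomial. -/
noncomputable def f0 : (R0.{u} n)[X] :=
  Polynomial.X ^ (n + 1) + ∑ i : Fin (n + 1), Polynomial.C (MvPolynomial.X i : R0.{u} n) * Polynomial.X ^ (i : ℕ)

theorem f0_monic : (f0.{u} n).Monic := monic_X_pow_add (degree_sum_fin_lt _)

theorem f0_natDegree : (f0.{u} n).natDegree = n + 1 := by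
  rw [f0, natDegree_add_eq_left_of_degree_lt (by rw [degree_X_pow]; exact degree_sum_fin_lt _), natDegree_X_pow]

/-- The resultant of the generic polynomial with its derivative. -/
noncomputable def res0 : R0.{u} n := resultant (f0 n) (derivative (f0 n)) (n + 1) (n + 1)

theorem isUnit_map_res0_iff {A : Type u} [CommRing A] (φ : R0.{u} n →+* A) :
    IsUnit (φ (res0 n)) ↔ IsCoprime ((f0 n).map φ) (derivative ((f0 n).map φ)) := by
  rcases subsingleton_or_nontrivial A with h | h
  · exact ⟨fun _ => ⟨0, 0, Subsingleton.elim _ _⟩, fun _ => isUnit_of_subsingleton _⟩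
  have hm := (f0_monic.{u} n).map φ
  have hd : ((f0 n).map φ).natDegree = n + 1 := ((f0_monic n).natDegree_map φ).trans (f0_natDegree n)
  obtain ⟨k, hk⟩ := Nat.exists_eq_add_of_le (show (derivative ((f0 n).map φ)).natDegree ≤ n + 1 from
    (natDegree_derivative_le _).trans ((Nat.sub_le _ _).trans hd.le))
  have e := resultant_add_right_deg ((f0 n).map φ) (derivative ((f0 n).map φ)) (n + 1)
    (derivative ((f0 n).map φ)).natDegree k le_rfl
  rw [← hk] at e
  rw [← isUnit_resultant_iff_isCoprime hm, res0, ← resultant_map_map, ← derivative_map, e,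
    show ((f0 n).map φ).coeff (n + 1) = 1 from (congrArg ((f0 n).map φ).coeff hd.symm).trans hm, one_pow, one_mul, hd]

/-- The ring over which the generic polynomial is separable. -/
abbrev R1 : Type u := Localization.Away (res0.{u} n)

/-- The generic separable polynomial. -/
noncomputable def f1 : (R1.{u} n)[X] := (f0 n).map (algebraMap (R0.{u} n) (R1.{u} n))

theorem f1_monic : (f1.{u} n).Monic := (f0_monic n).map _

/-- The root algebra. -/
abbrev E1 : Type u := AdjoinRoot (f1.{u} n)

theorem etale_E1 : Algebra.Etale (R1.{u} n) (E1.{u} n) := by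
  obtain ⟨a, b, e⟩ := (isUnit_map_res0_iff n (algebraMap (R0.{u} n) (R1.{u} n))).1
    (IsLocalization.Away.algebraMap_isUnit _)
  refine Hensel.etale_adjoinRoot (f1_monic n) (IsUnit.of_mul_eq_one (aeval (AdjoinRoot.root (f1 n)) b) ?_)
  have h1 := congrArg (aeval (AdjoinRoot.root (f1.{u} n))) e
  rw [map_add, map_mul, map_mul, map_one] at h1
  change _ * aeval _ (f1 n) + _ * aeval _ (derivative (f1 n)) = 1 at h1
  rw [AdjoinRoot.aeval_eq (f := f1 n) (f1 n), AdjoinRoot.mk_self, mul_zero, zero_add] at h1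
  rw [mul_comm]
  exact h1

theorem finite_E1 : Module.Finite (R1.{u} n) (E1.{u} n) := (f1_monic n).finite_adjoinRoot

theorem comap_surjective_E1 : Function.Surjective (PrimeSpectrum.comap (algebraMap (R1.{u} n) (E1.{u} n))) := by
  haveI := finite_E1.{u} n
  rcases subsingleton_or_nontrivial (R1.{u} n) with h | h
  · exact fun x => isEmptyElim x
  · haveI : Algebra.IsIntegral (R1.{u} n) (E1.{u} n) := Algebra.IsIntegral.of_finite _ _
    haveI : FaithfulSMul (R1.{u} n) (E1.{u} n) := (faithfulSMul_iff_algebraMap_injective _ _).2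
      ((injective_iff_map_eq_zero _).2 fun r hr => by
        rw [AdjoinRoot.algebraMap_eq, ← AdjoinRoot.mk_C, AdjoinRoot.mk_eq_zero] at hr
        by_contra hr0
        refine (f1_monic n).not_dvd_of_natDegree_lt (C_ne_zero.2 hr0) ?_ hr
        rw [natDegree_C, f1, (f0_monic n).natDegree_map, f0_natDegree]
        omega)
    exact Algebra.IsIntegral.comap_surjective _ _

theorem smooth_R1 : Algebra.Smooth (ULift.{u} ℤ) (R1.{u} n) := by
  haveI : Algebra.Smooth (ULift.{u} ℤ) (R0.{u} n) := ⟨inferInstance, inferInstance⟩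
  haveI : Algebra.Etale (R0.{u} n) (R1.{u} n) := Algebra.Etale.of_isLocalizationAway (res0 n)
  exact Algebra.Smooth.comp _ (R0.{u} n) _

variable (S : Scheme.{u})

/-- The base of the universal separable polynomial over `S`. -/
noncomputable abbrev DObj : Over S :=
  Over.mk (pullback.fst (specULiftZIsTerminal.from S)
    (Spec.map (CommRingCat.ofHom (algebraMap (ULift.{u} ℤ) (R1.{u} n)))))

/-- The map to the parameter space. -/
noncomputable abbrev DProj : (DObj n S).left ⟶ Spec (CommRingCat.of (R1.{u} n)) :=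
  pullback.snd _ _

/-- The universal root scheme. -/
noncomputable abbrev DObj' : Over S :=
  Over.mk (pullback.fst (DProj n S) (Spec.map (CommRingCat.ofHom (algebraMap (R1.{u} n) (E1.{u} n)))) ≫ (DObj n S).hom)

/-- The universal finite etale map. -/
noncomputable abbrev DMap : DObj' n S ⟶ DObj n S := Over.homMk (pullback.fst _ _) rfl

instance smooth_DObj : Smooth (DObj n S).hom := by
  haveI : Smooth (Spec.map (CommRingCat.ofHom (algebraMap (ULift.{u} ℤ) (R1.{u} n)))) :=
    (HasRingHomProperty.Spec_iff (P := @Smooth)).2 (RingHom.smooth_algebraMap.2 (smooth_R1 n))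
  exact inferInstanceAs (Smooth (pullback.fst _ _))

instance finite_DMap : IsFinite (DMap n S).left := by
  haveI : IsFinite (Spec.map (CommRingCat.ofHom (algebraMap (R1.{u} n) (E1.{u} n)))) :=
    (IsFinite.SpecMap_iff _).2 (RingHom.finite_algebraMap.2 (finite_E1 n))
  exact inferInstanceAs (IsFinite (pullback.fst _ _))

instance etale_DMap : Etale (DMap n S).left := by
  haveI : Etale (Spec.map (CommRingCat.ofHom (algebraMap (R1.{u} n) (E1.{u} n)))) :=
    (HasRingHomProperty.Spec_iff (P := @Etale)).2 (RingHom.etale_algebraMap.2 (etale_E1 n))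
  exact inferInstanceAs (Etale (pullback.fst _ _))

instance surjective_DMap : Surjective (DMap n S).left := by
  haveI : Surjective (Spec.map (CommRingCat.ofHom (algebraMap (R1.{u} n) (E1.{u} n)))) := ⟨comap_surjective_E1 n⟩
  exact inferInstanceAs (Surjective (pullback.fst _ _))

/-- A monic separable polynomial over a field gives a point whose fibre is the spectrum of the root algebra. -/
theorem exists_point {k : Type u} [Field k] (str : Spec (CommRingCat.of k) ⟶ S) {g : k[X]} (hg : g.Monic)
    (hn : g.natDegree = n + 1) (hs : g.Separable) :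
    ∃ (a : Over.mk str ⟶ DObj n S) (ψ : E1.{u} n →+* AdjoinRoot g),
      ∀ (W : Over S) (k' : W ⟶ Over.mk str) (l : W ⟶ DObj' n S), k' ≫ a = l ≫ DMap n S →
      ∃! η : W.left ⟶ Spec (CommRingCat.of (AdjoinRoot g)),
        η ≫ Spec.map (CommRingCat.ofHom (algebraMap k (AdjoinRoot g))) = k'.left ∧
        η ≫ Spec.map (CommRingCat.ofHom ψ) = l.left ≫ pullback.snd _ _ := by
  let φ₀ : R0.{u} n →+* k := MvPolynomial.eval₂Hom ((Int.castRingHom k).comp ULift.ringEquiv.toRingHom)
    (fun i => g.coeff i)
  have hf : (f0 n).map φ₀ = g := by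
    conv_rhs => rw [hg.as_sum, hn]
    rw [f0]
    simp only [Polynomial.map_add, Polynomial.map_pow, Polynomial.map_X, Polynomial.map_sum, Polynomial.map_mul,
      Polynomial.map_C, φ₀, MvPolynomial.eval₂Hom_X']
    rw [← Fin.sum_univ_eq_sum_range (fun i => C (g.coeff i) * X ^ i)]
  let φ : R1.{u} n →+* k := IsLocalization.Away.lift (res0 n) ((isUnit_map_res0_iff n φ₀).2 (by rw [hf]; exact hs))
  have hφ : φ.comp (algebraMap (R0.{u} n) (R1.{u} n)) = φ₀ := IsLocalization.Away.lift_comp _ _
  have hf1 : (f1 n).map φ = g := by rw [f1, Polynomial.map_map, hφ, hf]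
  have hψ0 : eval₂ ((AdjoinRoot.of g).comp φ) (AdjoinRoot.root g) (f1 n) = 0 := by
    rw [← eval₂_map, hf1, AdjoinRoot.eval₂_root]
  let ψ : E1.{u} n →+* AdjoinRoot g := AdjoinRoot.lift ((AdjoinRoot.of g).comp φ) (AdjoinRoot.root g) hψ0
  have hψ : CommRingCat.ofHom (algebraMap (R1.{u} n) (E1.{u} n)) ≫ CommRingCat.ofHom ψ =
      CommRingCat.ofHom φ ≫ CommRingCat.ofHom (algebraMap k (AdjoinRoot g)) := by
    refine CommRingCat.hom_ext (RingHom.ext fun r => ?_)
    show ψ (AdjoinRoot.of (f1 n) r) = _
    exact (AdjoinRoot.lift_of hψ0).trans rfl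
  have hpo : IsPushout (CommRingCat.ofHom (algebraMap (R1.{u} n) (E1.{u} n))) (CommRingCat.ofHom φ)
      (CommRingCat.ofHom ψ) (CommRingCat.ofHom (algebraMap k (AdjoinRoot g))) := by
    have hD : ∀ c : PushoutCocone (CommRingCat.ofHom (algebraMap (R1.{u} n) (E1.{u} n))) (CommRingCat.ofHom φ),
        eval₂ c.inr.hom (c.inl.hom (AdjoinRoot.root (f1.{u} n))) g = 0 := fun c => by
      have hc : c.inr.hom.comp φ = c.inl.hom.comp (AdjoinRoot.of (f1.{u} n)) :=
        (congrArg CommRingCat.Hom.hom c.condition).symm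
      rw [← hf1, eval₂_map, hc, ← hom_eval₂, AdjoinRoot.eval₂_root, map_zero]
    refine ⟨⟨hψ⟩, ⟨PushoutCocone.IsColimit.mk hψ (fun c => CommRingCat.ofHom
      (AdjoinRoot.lift c.inr.hom (c.inl.hom (AdjoinRoot.root (f1 n))) (hD c))) (fun c => ?_) (fun c => ?_)
      fun c m h1 h2 => ?_⟩⟩
    · ext e
      · show AdjoinRoot.lift _ _ (hD c) (ψ (AdjoinRoot.of (f1 n) e)) = _
        rw [show ψ (AdjoinRoot.of (f1 n) e) = (AdjoinRoot.of g).comp φ e from AdjoinRoot.lift_of hψ0, RingHom.comp_apply,
          AdjoinRoot.lift_of]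
        exact (congr(($(c.condition)).hom e)).symm
      · show AdjoinRoot.lift _ _ (hD c) (ψ (AdjoinRoot.root (f1 n))) = _
        rw [show ψ (AdjoinRoot.root (f1 n)) = AdjoinRoot.root g from AdjoinRoot.lift_root hψ0, AdjoinRoot.lift_root]
    · ext r
      exact AdjoinRoot.lift_of (hD c)
    · ext e
      · exact (congr(($h2).hom e)).trans (AdjoinRoot.lift_of (hD c)).symm
      · show m.hom (AdjoinRoot.root g) = AdjoinRoot.lift _ _ (hD c) (AdjoinRoot.root g)
        rw [AdjoinRoot.lift_root]
        have := congr(($h1).hom (AdjoinRoot.root (f1 n)))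
        simpa [ψ] using this
  have sq := isPullback_SpecMap_of_isPushout _ _ _ _ hpo
  have hZ : str ≫ specULiftZIsTerminal.from S =
      Spec.map (CommRingCat.ofHom φ) ≫ Spec.map (CommRingCat.ofHom (algebraMap (ULift.{u} ℤ) (R1.{u} n))) :=
    specULiftZIsTerminal.hom_ext _ _
  let a : Over.mk str ⟶ DObj n S := Over.homMk (pullback.lift str (Spec.map (CommRingCat.ofHom φ)) hZ)
    (pullback.lift_fst _ _ _)
  refine ⟨a, ψ, fun W k' l h => ?_⟩
  have w : (l.left ≫ pullback.snd _ _) ≫ Spec.map (CommRingCat.ofHom (algebraMap (R1.{u} n) (E1.{u} n))) =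
      k'.left ≫ Spec.map (CommRingCat.ofHom φ) := by
    have h' : k'.left ≫ a.left = l.left ≫ pullback.fst _ _ := congrArg CommaMorphism.left h
    rw [Category.assoc, ← pullback.condition, ← Category.assoc, ← h', Category.assoc]
    congr 1
    exact pullback.lift_snd _ _ _
  refine ⟨sq.lift (l.left ≫ pullback.snd _ _) k'.left w, ⟨sq.lift_snd _ _ _, sq.lift_fst _ _ _⟩, fun η h' => ?_⟩
  exact sq.hom_ext (h'.2.trans (sq.lift_fst _ _ _).symm) (h'.1.trans (sq.lift_snd _ _ _).symm)

end Groth.Agent.StChart
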