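import Groth.Agent.StChart.QCat
import Groth.Agent.StChart.Poly
import Groth.Agent.SmoothSecLib.Basic
import Groth.Agent.AlgSpDec.Hens.Chart
import Groth.Agent.DescLib.SigmaLocal
import Groth.Agent.AlgStLib.SpaceCalc
import Groth.Agent.AlgStLib.Charts

/-!
# A separated smooth chart of an algebraic stack catching all field-valued points
-/

set_option autoImplicit false
set_option backward.isDefEq.respectTransparency false
set_option backward.isDefEq.respectTransparency.types false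

universe u

open CategoryTheory CategoryTheory.Functor CategoryTheory.Limits Opposite AlgebraicGeometry AlgSp
open Groth.Agent.FibBase Groth.Agent.AlgSpLib Groth.Agent.AlgStLib Groth.Agent.AlgSpDec

namespace Groth.Agent.StChart

variable (S : Scheme.{u})

/-- The parameter scheme of all monic separable polynomials. -/
noncomputable def DAll : Over S := sigmaOver fun n : ULift.{u} ℕ => DObj n.down S

/-- The scheme of their roots. -/
noncomputable def DAll' : Over S := sigmaOver fun n : ULift.{u} ℕ => DObj' n.down S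

/-- The finite etale map of all separable polynomials. -/
noncomputable def pAll : DAll' S ⟶ DAll S :=
  Over.homMk (Limits.Sigma.map fun n : ULift.{u} ℕ => (DMap n.down S).left) (Sigma.hom_ext _ _ fun n => by
    show Sigma.ι (fun n : ULift.{u} ℕ => (DObj' n.down S).left) n ≫
      Limits.Sigma.map (fun n : ULift.{u} ℕ => (DMap n.down S).left) ≫
      Sigma.desc (fun n : ULift.{u} ℕ => (DObj n.down S).hom) =
      Sigma.ι (fun n : ULift.{u} ℕ => (DObj' n.down S).left) n ≫ Sigma.desc (fun n : ULift.{u} ℕ => (DObj' n.down S).hom)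
    rw [Sigma.ι_map_assoc, Sigma.ι_desc, Sigma.ι_desc]
    exact Over.w (DMap n.down S))

theorem finite_DMapAll : IsFinite (pAll S).left := by
  have h := DescLib.prop_sigmaMap @IsFinite (fun n : ULift.{u} ℕ => (DMap n.down S).left) fun n => inferInstance
  exact h

attribute [instance] finite_DMapAll

theorem etale_DMapAll : Etale (pAll S).left := by
  have h := DescLib.prop_sigmaMap @Etale (fun n : ULift.{u} ℕ => (DMap n.down S).left) fun n => inferInstance
  exact h

attribute [instance] etale_DMapAll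

theorem surjective_DMapAll : Surjective (pAll S).left := by
  have h := DescLib.prop_sigmaMap @Surjective (fun n : ULift.{u} ℕ => (DMap n.down S).left) fun n => inferInstance
  exact h

attribute [instance] surjective_DMapAll

instance : Smooth (DAll S).hom :=
  IsZariskiLocalAtSource.sigmaDesc (P := @Smooth) fun n => smooth_DObj n.down S

theorem isPullback_pAll (n : ULift.{u} ℕ) :
    IsPullback (sigmaι (fun n : ULift.{u} ℕ => DObj' n.down S) n) (DMap n.down S) (pAll S)
      (sigmaι (fun n : ULift.{u} ℕ => DObj n.down S) n) :=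
  IsPullback.of_map_of_faithful (Over.forget S)
    (DescLib.isPullback_sigmaMap (fun n : ULift.{u} ℕ => (DMap n.down S).left) n)

variable {S} {𝒵 : AlgSt.Cat S}

/-- Precomposing the functor of a section with a map of schemes. -/
theorem overMap_comp_overOfMap {F : Sp S} {Z W : Over S} (y : W ⟶ Z) (p : (yon S).obj Z ⟶ F) :
    Nonempty (BasedFunctor.comp (AlgSt.overMap y) (overOfMap p) ≅ overOfMap ((yon S).map y ≫ p)) :=
  ⟨pshIso _ _ fun a => rfl⟩

/-- A point of the chart over a field gives a point of the restriction of scalars. -/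
theorem exists_pt [FibCat.IsFibGrpd 𝒵.p] {X : Over S} (x : FibCat.overCat X ⥤ᵇ 𝒵)
    (hx : AlgSt.RepByAlgSpWith (LocP @Smooth) x) (hx' : AlgSt.RepByAlgSpWith IsSurjectiveMor x)
    {k : Type u} [Field k] (str : Spec (CommRingCat.of k) ⟶ S) (z : FibCat.overCat (Over.mk str) ⥤ᵇ 𝒵) :
    ∃ g : Pt (pAll S) (triPsh x z) (triQ x z) (Over.mk str), g.t = 𝟙 _ := by
  let K : Over S := Over.mk str
  obtain ⟨h, hA, hq⟩ := tri_space x z stableBC_locP hx
  obtain ⟨_, _, hq'⟩ := tri_space x z stableBC_isSurjectiveMor hx'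
  let F : Sp S := ⟨_, h⟩
  let q : F ⟶ (yon S).obj K := ObjectProperty.homMk (triQ x z)
  have hqs : IsSurjectiveMor q := hq'
  obtain ⟨T, c, hc, hc'⟩ := hA.atlas
  obtain ⟨m, hm⟩ := (yon S).map_surjective (c ≫ q)
  haveI : Smooth m.left := hq c (𝟙 _) m hc (repWith_id _ _) (by rw [Category.comp_id]; exact hm.symm)
  obtain ⟨t₀, -⟩ : ∃ t : T.left, m.left t = (IsLocalRing.closedPoint k : Spec (CommRingCat.of k)) := by
    obtain ⟨x₁, h1⟩ := hqs (Points.schemeHomeo K (IsLocalRing.closedPoint k : Spec (CommRingCat.of k)))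
    obtain ⟨x₂, h2⟩ := surjective_map_of_repWith hc' x₁
    obtain ⟨t, rfl⟩ := (Points.schemeHomeo T).surjective x₂
    refine ⟨t, (Points.schemeHomeo K).injective ?_⟩
    rw [← h1, ← h2, ← Points.map_comp]
    show _ = Points.map (c ≫ q) _
    rw [← hm, Points.map_yon_map_eq]
    simp
  obtain ⟨L, _, _, _, _, s, hs, -⟩ := SmoothSecLib.exists_separable_point (k := k) m.left ⊤ (x := t₀) trivial
  let pb := Field.powerBasisOfFiniteOfSeparable k L
  let g : Polynomial k := minpoly k pb.gen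
  have hg : g.Monic := minpoly.monic pb.isIntegral_gen
  obtain ⟨n, hn⟩ : ∃ n, g.natDegree = n + 1 :=
    Nat.exists_eq_succ_of_ne_zero (minpoly.natDegree_pos pb.isIntegral_gen).ne'
  obtain ⟨a₀, ψ, hη⟩ := exists_point n S str hg hn (Algebra.IsSeparable.isSeparable k pb.gen)
  let β : L →ₐ[k] AdjoinRoot g := pb.lift (AdjoinRoot.root g) (by rw [AdjoinRoot.aeval_eq, AdjoinRoot.mk_self])
  let E : Over S := Over.mk (Spec.map (CommRingCat.ofHom (algebraMap k (AdjoinRoot g))) ≫ str)
  let e : E ⟶ K := Over.homMk (Spec.map (CommRingCat.ofHom (algebraMap k (AdjoinRoot g)))) rfl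
  let s' : E ⟶ T := Over.homMk (Spec.map (CommRingCat.ofHom β.toRingHom) ≫ s) (by
    show (Spec.map _ ≫ s) ≫ T.hom = Spec.map _ ≫ str
    rw [← Over.w m, Category.assoc, reassoc_of% hs, ← Spec.map_comp_assoc]
    congr 2
    exact CommRingCat.hom_ext (RingHom.ext fun r => β.commutes r))
  have hse : s' ≫ m = e := Over.OverMorphism.ext (by
    show (Spec.map _ ≫ s) ≫ m.left = Spec.map _
    rw [Category.assoc, hs, ← Spec.map_comp]
    congr 1
    exact CommRingCat.hom_ext (RingHom.ext fun r => β.commutes r))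
  let τ : Tri x z E := (J S).uliftYonedaEquiv ((yon S).map s' ≫ c)
  have hτ : τ.t = e := by
    have h1 : (yon S).map s' ≫ c ≫ q = (yon S).map e := by rw [← hm, ← Functor.map_comp, hse]
    have h2 := congrArg ULift.down (congrArg (J S).uliftYonedaEquiv h1)
    rw [← Category.assoc, GrothendieckTopology.uliftYonedaEquiv_comp] at h2
    exact h2.trans (Category.id_comp e)
  let ιn := sigmaι (fun n : ULift.{u} ℕ => DObj n.down S) ⟨n⟩
  let ιn' := sigmaι (fun n : ULift.{u} ℕ => DObj' n.down S) ⟨n⟩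
  have sq := isPullback_pAll S ⟨n⟩
  have hl : ∀ {W : Over S} {k' : W ⟶ K} {l : W ⟶ DAll' S}, k' ≫ a₀ ≫ ιn = l ≫ pAll S →
      ∃ ηO : W ⟶ E, ηO ≫ e = k' ∧ ∃ l₀ : W ⟶ DObj' n S, l₀ ≫ ιn' = l ∧
        ηO.left ≫ Spec.map (CommRingCat.ofHom ψ) = l₀.left ≫ pullback.snd _ _ := fun {W k' l} h => by
    let l₀ : W ⟶ DObj' n S := sq.lift l (k' ≫ a₀) (by rw [Category.assoc]; exact h.symm)
    have hl₀ : k' ≫ a₀ = l₀ ≫ DMap n S := (sq.lift_snd _ _ _).symm
    obtain ⟨η, ⟨h1, h2⟩, -⟩ := hη W k' l₀ hl₀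
    refine ⟨Over.homMk η ?_, Over.OverMorphism.ext h1, l₀, sq.lift_fst _ _ _, h2⟩
    show η ≫ Spec.map _ ≫ str = W.hom
    rw [reassoc_of% h1]
    exact Over.w k'
  choose ηO hηe l₀ hl₀ hηψ using @hl
  haveI : Mono ιn' := (Over.forget S).mono_of_mono_map (inferInstanceAs (Mono ιn'.left))
  refine ⟨{ t := 𝟙 K, a := a₀ ≫ ιn, b := fun W k' l h => (triPsh x z).map (ηO h).op τ, nat := ?_, qb := ?_ }, rfl⟩
  · intro W W' j k' l h h'
    rw [← FunctorToTypes.map_comp_apply, ← op_comp]
    suffices hh : j ≫ ηO h = ηO h' by rw [hh]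
    have hk : (j ≫ k') ≫ a₀ = l₀ h' ≫ DMap n S := by
      have hw := sq.w
      haveI : Mono ιn := (Over.forget S).mono_of_mono_map (inferInstanceAs (Mono ιn.left))
      rw [← cancel_mono ιn, Category.assoc, h', Category.assoc (l₀ h'), ← hw, ← Category.assoc (l₀ h'), hl₀]
    have hu := hη W' (j ≫ k') (l₀ h') hk
    refine Over.OverMorphism.ext (hu.unique ⟨?_, ?_⟩ ⟨congrArg CommaMorphism.left (hηe h'), hηψ h'⟩)
    · rw [Over.comp_left, Category.assoc]
      exact congrArg (j.left ≫ ·) (congrArg CommaMorphism.left (hηe h))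
    · rw [Over.comp_left, Category.assoc, hηψ h, ← Category.assoc]
      congr 1
      refine congrArg CommaMorphism.left (?_ : j ≫ l₀ h = l₀ h')
      rw [← cancel_mono ιn', Category.assoc, hl₀, hl₀]
  · intro W k' l h
    refine congrArg ULift.up ?_
    obtain ⟨h1, -, -⟩ := triPsh_map x z (ηO h) τ
    show ((triPsh x z).map (ηO h).op τ : Tri x z W).t = k' ≫ 𝟙 K
    rw [← h1, hτ, hηe, Category.comp_id]

/-- An algebraic stack has a separated smooth chart catching all field-valued points. -/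
theorem exists_rat_chart_stack (h𝒵 : AlgSt.IsAlgStack Scheme.etalePrecoverage 𝒵) :
    ∃ (Z : Over S) (p : FibCat.overCat Z ⥤ᵇ 𝒵), IsSeparated Z.hom ∧ AlgSt.RepByAlgSpWith (LocP @Smooth) p ∧
      ∀ (k : Type u) [Field k] (str : Spec (CommRingCat.of k) ⟶ S) (z : FibCat.overCat (Over.mk str) ⥤ᵇ 𝒵),
        ∃ y : Over.mk str ⟶ Z, Nonempty (BasedFunctor.comp (AlgSt.overMap y) p ≅ z) := by
  haveI := h𝒵.isStack.1
  obtain ⟨X, x, hx, hx'⟩ := h𝒵.atlas
  obtain ⟨Q, e, he⟩ := repByAlgSp_QCat x (pAll S) h𝒵 hx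
  obtain ⟨e', he', -, ⟨i⟩⟩ := isEquivOver_inv he
  obtain ⟨Z, pZ, hsep, hpe, hlift⟩ := Hens.exists_rat_chart Q
  have hpQ : AlgSt.RepByAlgSpWith (LocP @Smooth) (BasedFunctor.comp e (qπ x (pAll S))) :=
    repByAlgSpWith_precomp he (qπ_smooth x (pAll S) hx)
  refine ⟨Z, BasedFunctor.comp (overOfMap pZ) (BasedFunctor.comp e (qπ x (pAll S))), hsep,
    repByAlgSpWith_locP_comp (isFibGrpd_overCat Z) (isFibGrpd_ofSp Q.obj)
      (repByAlgSpWith_overOfMap stableBC_locP Q.property
        (locP_mono (P := @Etale) etale_le_smooth (locP_of_repWith hpe))) hpQ, fun k _ str z => ?_⟩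
  obtain ⟨g, hg⟩ := exists_pt x hx hx' str z
  have hg0 := isFibGrpd_QCat x (pAll S)
  let q : (QCat x (pAll S)).obj := qOfPt z g
  obtain ⟨G, iG, hiG⟩ := exists_overCat_obj hg0 (U := Over.mk str) q (z.w_obj (Over.mk g.t))
  have hl : 𝒵.p.IsHomLift (𝟙 (Over.mk str)) iG.hom.f := lift_of_qlift x (pAll S) iG.hom _ hiG
  have hw := hm_lift z (𝟙 (Over.mk str)) (a := g.t) (b := 𝟙 (Over.mk str)) ((Category.id_comp _).trans hg.symm)
  obtain ⟨iz⟩ := exists_iso_of_eval h𝒵.isStack.1 (BasedFunctor.comp G (qπ x (pAll S))) z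
    (iG.hom.f ≫ hm z (𝟙 _) ((Category.id_comp _).trans hg.symm))
    (IsHomLift.comp_lift_id_right' 𝒵.p (𝟙 (Over.mk str)) iG.hom.f (Over.mk str) _)
  let Φ := BasedFunctor.comp G e'
  obtain ⟨y, hy⟩ := hlift k str (mapOfOver Φ)
  obtain ⟨j⟩ := overMap_comp_overOfMap y pZ
  refine ⟨y, ⟨?_⟩⟩
  exact whiskerRightIso (j ≪≫ eqToIso (congrArg overOfMap hy) ≪≫ (isoOverOfMap Φ).symm)
      (BasedFunctor.comp e (qπ x (pAll S))) ≪≫
    whiskerLeftIso G (whiskerRightIso i (qπ x (pAll S))) ≪≫ iz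

end Groth.Agent.StChart
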