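import Groth.Agent.StChart.Res
import Groth.Agent.S9559
import Groth.Agent.S10696
import Groth.Agent.AlgSpDec.OpenCoverSpace

/-!
# Restriction of scalars along a finite etale morphism
-/

set_option autoImplicit false
set_option backward.isDefEq.respectTransparency false
set_option backward.isDefEq.respectTransparency.types false

universe u

open CategoryTheory Limits Opposite AlgebraicGeometry AlgSp Groth.Agent.AlgSpLib Groth.Agent.AlgSpDec

namespace Groth.Agent.StChart

variable {S : Scheme.{u}} {D D' D₀ D₀' V : Over S} {p : D' ⟶ D} {p₀ : D₀' ⟶ D₀} {c : D₀ ⟶ D} {c' : D₀' ⟶ D'}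

/-- The comparison with the restriction along a base change. -/
noncomputable def resBC (sq : IsPullback c' p₀ p c) (F : PSp S) (q : F ⟶ (pyon S).obj V) :
    resPsh p₀ F q ⟶ resPsh p F q where
  app T := ↾fun x =>
    { t := Pt.t x
      a := Pt.a x ≫ c
      b := fun W k l h => Pt.b x W k (sq.lift l (k ≫ Pt.a x) (h.symm.trans (Category.assoc _ _ _).symm))
        (sq.lift_snd _ _ _).symm
      nat := fun W W' g k l h h' => by
        rw [Pt.nat x W W' g k _ _ (by
          rw [Category.assoc g (sq.lift _ _ _) p₀, sq.lift_snd, Category.assoc])]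
        exact Pt.b_congr rfl rfl (sq.hom_ext (by rw [Category.assoc, sq.lift_fst, sq.lift_fst])
          (by rw [Category.assoc, sq.lift_snd, sq.lift_snd, Category.assoc])) _ _
      qb := fun W k l h => Pt.qb x W k _ _ }
  naturality T T' g := by
    ext x
    exact Pt.ext' rfl (Category.assoc _ _ _) fun W k l h h' => Pt.b_congr rfl rfl
      (sq.hom_ext (by rw [sq.lift_fst, sq.lift_fst]) (by rw [sq.lift_snd, sq.lift_snd, Category.assoc]; rfl)) _ _

theorem isPullback_resBC (sq : IsPullback c' p₀ p c) [Mono c] (F : PSp S) (q : F ⟶ (pyon S).obj V) :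
    IsPullback (resBC sq F q) (resToD p₀ F q) (resToD p F q) ((pyon S).map c) := by
  refine IsPullback.of_forall_isPullback_app fun T => ?_
  rw [Types.isPullback_iff]
  refine ⟨rfl, fun x x' ⟨h1, h2⟩ => ?_, fun x d hd => ?_⟩
  · have ha : Pt.a x = Pt.a x' := congrArg ULift.down h2
    refine Pt.ext' (congrArg Pt.t h1 :) ha fun W k l h h' => ?_
    have e1 : k ≫ (Pt.a x ≫ c) = (l ≫ c') ≫ p := by
      rw [← Category.assoc, h, Category.assoc, Category.assoc, sq.w]
    have e2 : k ≫ (Pt.a x' ≫ c) = (l ≫ c') ≫ p := by rw [← ha]; exact e1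
    have := Pt.b_congr (h1 : (resBC sq F q).app T x = (resBC sq F q).app T x') (k := k) rfl (l := l ≫ c') rfl e1 e2
    refine Eq.trans (Pt.b_congr rfl rfl (sq.hom_ext (sq.lift_fst _ _ _).symm ?_) h
      (sq.lift_snd _ _ _).symm) (this.trans (Pt.b_congr rfl rfl (sq.hom_ext (sq.lift_fst _ _ _) ?_)
      (sq.lift_snd _ _ _).symm h'))
    · rw [sq.lift_snd]; exact h.symm
    · rw [sq.lift_snd]; exact h'
  · have ha : Pt.a x = d.down ≫ c := congrArg ULift.down hd
    have hh : ∀ {W : Over S} {k : W ⟶ T.unop} {l : W ⟶ D₀'}, k ≫ d.down = l ≫ p₀ →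
        k ≫ Pt.a x = (l ≫ c') ≫ p := fun {W k l} h => by
      rw [ha, ← Category.assoc, h, Category.assoc, Category.assoc, sq.w]
    refine ⟨{ t := Pt.t x, a := d.down, b := fun W k l h => Pt.b x W k (l ≫ c') (hh h),
              nat := fun W W' g k l h h' => by
                rw [Pt.nat x W W' g k (l ≫ c') _ (by rw [Category.assoc, hh h]; simp only [Category.assoc])]
                exact Pt.b_congr rfl rfl (Category.assoc _ _ _).symm _ _
              qb := fun W k l h => Pt.qb x W k _ _ }, ?_, rfl⟩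
    refine Pt.ext' rfl ha.symm fun W k l h h' => ?_
    exact Pt.b_congr rfl rfl (sq.lift_fst _ _ _) _ _

theorem exists_split (p : D' ⟶ D) [IsFinite p.left] [Etale p.left] [Smooth D.hom] (s : D.left) :
    ∃ (D₀ D₀' : Over S) (c : D₀ ⟶ D) (c' : D₀' ⟶ D') (p₀ : D₀' ⟶ D₀),
      IsOpenImmersion c.left ∧ s ∈ Set.range c.left ∧ IsPullback c' p₀ p c ∧ Nonempty (Split p₀) := by
  obtain ⟨U₀, g, hg, u, hu, n, Vj, cj, hcj, e, he⟩ := S9559.result p.left s
  haveI := hg
  let O : D.left.Opens := ⟨Set.range g, g.isOpenMap.isOpen_range⟩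
  let D₀ : Over S := Over.mk (O.ι ≫ D.hom)
  let c : D₀ ⟶ D := Over.homMk O.ι rfl
  have sq := IsPullback.of_hasPullback p c
  let g₀ : U₀ ⟶ O.toScheme := IsOpenImmersion.lift O.ι g (by rw [Scheme.Opens.range_ι]; exact subset_rfl)
  have hg₀ : g₀ ≫ O.ι = g := IsOpenImmersion.lift_fac _ _ _
  let U : Over S := Over.mk (g ≫ D.hom)
  let v : U ⟶ D₀ := Over.homMk g₀ (show g₀ ≫ O.ι ≫ D.hom = g ≫ D.hom by rw [← Category.assoc, hg₀])
  haveI : ∀ j, IsIso (cj j) := hcj
  let r : Fin n → (U₀ ⟶ pullback p.left g) := fun j => inv (cj j) ≫ Sigma.ι Vj j ≫ e.hom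
  have hr : ∀ j, r j ≫ pullback.snd p.left g = 𝟙 _ := fun j => by
    simp only [r, Category.assoc, he, IsIso.inv_hom_id]
  let r' : Fin n → (U ⟶ D') := fun j => Over.homMk (r j ≫ pullback.fst p.left g) (by
    show (r j ≫ pullback.fst p.left g) ≫ D'.hom = g ≫ D.hom
    rw [← Over.w p, ← Category.assoc, Category.assoc (r j), pullback.condition, ← Category.assoc (r j), hr,
      Category.id_comp])
  have hr' : ∀ j, r' j ≫ p = v ≫ c := fun j => Over.OverMorphism.ext (by
    show (r j ≫ pullback.fst p.left g) ≫ p.left = g₀ ≫ O.ι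
    rw [hg₀, Category.assoc, pullback.condition, ← Category.assoc, hr, Category.id_comp])
  refine ⟨D₀, pullback p c, c, pullback.fst p c, pullback.snd p c, inferInstanceAs (IsOpenImmersion O.ι),
    ⟨⟨s, u, hu⟩, rfl⟩, sq, ⟨{
      U := U, v := v
      smooth := inferInstanceAs (Smooth (g ≫ D.hom))
      etale := ?_
      surj := ⟨fun x => by
        obtain ⟨y, hy⟩ := x.2
        refine ⟨y, O.ι.isOpenEmbedding.injective ?_⟩
        show (g₀ ≫ O.ι) y = x.1
        rw [hg₀]
        exact hy⟩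
      n := n
      σ := fun j => pullback.lift (r' j) v (hr' j)
      hσ := fun j => pullback.lift_snd _ _ _
      cover := ?_, disjoint := ?_ }⟩⟩
  · haveI : Etale (g₀ ≫ O.ι) := by rw [hg₀]; exact hg
    exact MorphismProperty.of_postcomp (W := @Etale) (W' := @Etale) g₀ O.ι inferInstance ‹_›
  · intro W k l h
    have hl : (l ≫ pullback.fst p c) ≫ p = k ≫ v ≫ c := by
      rw [Category.assoc, pullback.condition, ← Category.assoc, ← h, Category.assoc]
    have hlg : (l ≫ pullback.fst p c).left ≫ p.left = k.left ≫ g := by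
      rw [← Over.comp_left, hl, ← hg₀]; rfl
    let m : W.left ⟶ pullback p.left g := pullback.lift (l ≫ pullback.fst p c).left k.left hlg
    let m' : W.left ⟶ ∐ Vj := m ≫ e.inv
    let O' : Fin n → W.left.Opens := fun j => m' ⁻¹ᵁ (Sigma.ι Vj j).opensRange
    have hO : TopologicalSpace.IsOpenCover O' := TopologicalSpace.Opens.ext (Set.eq_univ_of_forall fun w => by
      simp only [TopologicalSpace.Opens.coe_iSup, Set.mem_iUnion]
      obtain ⟨j, y, hy⟩ := (sigmaOpenCover Vj).exists_eq (m' w)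
      exact ⟨j, y, hy⟩)
    refine ⟨Sieve.ofArrows _ fun j => (Over.homMk (O' j).ι rfl : Over.mk ((O' j).ι ≫ W.hom) ⟶ W),
      mem_J_of_openCover (Scheme.openCoverOfIsOpenCover W.left O' hO) _ (fun j => Sieve.ofArrows_mk _ _ j),
      fun Y f hf => ?_⟩
    obtain ⟨j, f', rfl⟩ := (Sieve.mem_ofArrows_iff _ _ f).1 hf
    refine ⟨j, ?_⟩
    simp only [Category.assoc]
    congr 1
    apply pullback.hom_ext
    · simp only [Category.assoc, pullback.lift_fst]
      refine Over.OverMorphism.ext ?_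
      show (O' j).ι ≫ (l ≫ pullback.fst p c).left = (O' j).ι ≫ k.left ≫ r j ≫ pullback.fst p.left g
      let q : (O' j).toScheme ⟶ Vj j := IsOpenImmersion.lift (Sigma.ι Vj j) ((O' j).ι ≫ m') (by
        rintro _ ⟨w, rfl⟩
        rw [Scheme.Hom.comp_apply]
        exact w.2)
      have hq : q ≫ Sigma.ι Vj j = (O' j).ι ≫ m' := IsOpenImmersion.lift_fac _ _ _
      have hqm : q ≫ Sigma.ι Vj j ≫ e.hom = (O' j).ι ≫ m := by
        rw [reassoc_of% hq]; simp [m']
      have hqc : q = ((O' j).ι ≫ k.left) ≫ inv (cj j) := by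
        rw [IsIso.eq_comp_inv, ← he j, ← Category.assoc (Sigma.ι Vj j), ← Category.assoc q, hqm, Category.assoc]
        congr 1
        exact pullback.lift_snd _ _ _
      rw [hqc] at hqm
      simp only [Category.assoc] at hqm
      rw [← pullback.lift_fst (l ≫ pullback.fst p c).left k.left hlg]
      show (O' j).ι ≫ m ≫ pullback.fst p.left g = _
      rw [← reassoc_of% hqm]
      simp only [r, Category.assoc]
    · simp only [Category.assoc, pullback.lift_snd]
      rw [← h]
  · intro W k i j h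
    by_cases hij : i = j
    · exact Or.inl hij
    refine Or.inr ?_
    have h1 := congrArg (fun m => CommaMorphism.left (m ≫ pullback.fst p c)) h
    simp only [Category.assoc, pullback.lift_fst, Over.comp_left] at h1
    change k.left ≫ r i ≫ pullback.fst p.left g = k.left ≫ r j ≫ pullback.fst p.left g at h1
    have h2 : k.left ≫ r i = k.left ≫ r j := pullback.hom_ext (by simpa using h1) (by simp [hr])
    have h3 : (k.left ≫ inv (cj i)) ≫ Sigma.ι Vj i = (k.left ≫ inv (cj j)) ≫ Sigma.ι Vj j := by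
      simp only [r, ← Category.assoc, cancel_mono] at h2 ⊢
      exact h2
    exact isEmpty_of_commSq_sigmaι_of_ne ⟨h3⟩ hij

/-- Restriction of scalars along a finite etale morphism is an algebraic space, smooth over `V`. -/
theorem resPsh_space_of_finite_etale (p : D' ⟶ D) [IsFinite p.left] [Etale p.left] [Smooth D.hom] (F : Sp S)
    (q : F ⟶ (yon S).obj V) (hF : IsAlgSpace F) (hq : LocP @Smooth q) :
    ∃ h : Presheaf.IsSheaf (J S) (resPsh p F.obj q.hom), IsAlgSpace (⟨_, h⟩ : Sp S) ∧
      LocP @Smooth (ObjectProperty.homMk (resToV p F.obj q.hom) : (⟨_, h⟩ : Sp S) ⟶ (yon S).obj V) := by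
  have hG : Presheaf.IsSheaf (J S) (resPsh p F.obj q.hom) :=
    (isSheaf_iff_isSheaf_of_type _ _).2 (isSheaf_resPsh ((isSheaf_iff_isSheaf_of_type _ _).1 F.property))
  choose D₀ D₀' c c' p₀ hc hs sq hP using exists_split p
  have hsp := fun s => resPsh_space (hP s).some F q hF hq
  choose h hA hsm using hsp
  let G : Sp S := ⟨_, hG⟩
  let Y : D.left → Sp S := fun s => ⟨_, h s⟩
  let j : ∀ s, Y s ⟶ G := fun s => ObjectProperty.homMk (resBC (sq s) F.obj q.hom)
  haveI : ∀ s, Mono (c s) := fun s => by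
    haveI := hc s
    exact (Over.forget S).mono_of_mono_map (inferInstanceAs (Mono (c s).left))
  let toD : G ⟶ (yon S).obj D := ObjectProperty.homMk (resToD p F.obj q.hom)
  have sqs : ∀ s, IsPullback (j s) (ObjectProperty.homMk (resToD (p₀ s) F.obj q.hom) : Y s ⟶ (yon S).obj (D₀ s))
      toD ((yon S).map (c s)) := fun s =>
    IsPullback.of_map_of_faithful (sheafToPresheaf (J S) (Type (u + 1))) (isPullback_resBC (sq s) F.obj q.hom)
  have hj : IsZarCover Y j := by
    refine ⟨fun s => repWith_of_isPullback (sqs s).flip ((repWith_yon_map_iff _ _).2 (hc s)),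
      exists_mem_range_of_covering j fun T t => ?_⟩
    obtain ⟨m, hm⟩ := (yon S).map_surjective (t ≫ toD)
    let O : D.left → T.left.Opens := fun s => m.left ⁻¹ᵁ (haveI := hc s; (c s).left.opensRange)
    have hO : TopologicalSpace.IsOpenCover O := TopologicalSpace.Opens.ext (Set.eq_univ_of_forall fun w => by
      simp only [TopologicalSpace.Opens.coe_iSup, Set.mem_iUnion]
      exact ⟨m.left w, hs (m.left w)⟩)
    refine ⟨Sieve.ofArrows _ fun s => (Over.homMk (O s).ι rfl : Over.mk ((O s).ι ≫ T.hom) ⟶ T),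
      mem_J_of_openCover (Scheme.openCoverOfIsOpenCover T.left O hO) _ (fun s => Sieve.ofArrows_mk _ _ s),
      fun Y' f hf => ?_⟩
    obtain ⟨s, f', rfl⟩ := (Sieve.mem_ofArrows_iff _ _ f).1 hf
    haveI := hc s
    let d₀ : (O s).toScheme ⟶ (D₀ s).left := IsOpenImmersion.lift (c s).left ((O s).ι ≫ m.left) (by
      rintro _ ⟨w, rfl⟩
      rw [Scheme.Hom.comp_apply]
      exact w.2)
    have hd₀ : d₀ ≫ (c s).left = (O s).ι ≫ m.left := IsOpenImmersion.lift_fac _ _ _
    let d : Over.mk ((O s).ι ≫ T.hom) ⟶ D₀ s := Over.homMk d₀ (by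
      show d₀ ≫ (D₀ s).hom = (O s).ι ≫ T.hom
      rw [← Over.w (c s), reassoc_of% hd₀, Over.w m])
    refine ⟨s, (sqs s).lift ((yon S).map (f' ≫ Over.homMk (O s).ι rfl) ≫ t) ((yon S).map (f' ≫ d)) ?_,
      (sqs s).lift_fst _ _ _⟩
    rw [Category.assoc, ← hm, ← Functor.map_comp, ← Functor.map_comp, Category.assoc, Category.assoc,
      show (Over.homMk (O s).ι rfl : Over.mk ((O s).ι ≫ T.hom) ⟶ T) ≫ m = d ≫ c s from
        Over.OverMorphism.ext hd₀.symm]
  refine ⟨hG, isAlgSpace_of_zarCover hj hA, S10696.locP_of_zarCover' (IsAlgSpace.yon_obj V) hj hA _ fun s => ?_⟩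
  convert hsm s using 1
  exact ObjectProperty.hom_ext _ (NatTrans.ext (funext fun T => rfl))

end Groth.Agent.StChart
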