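import Groth.Agent.StChart.Cat
import Groth.Agent.StChart.Local
import Groth.Agent.S16832

/-!
# Objects with lifts to a chart along a finite etale cover
-/

set_option autoImplicit false
set_option backward.isDefEq.respectTransparency false
set_option backward.isDefEq.respectTransparency.types false

universe u

open CategoryTheory CategoryTheory.Functor CategoryTheory.Limits Opposite AlgebraicGeometry AlgSp
open Groth.Agent.FibBase Groth.Agent.AlgSpLib Groth.Agent.AlgStLib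

namespace Groth.Agent.StChart

variable {S : Scheme.{u}} {𝒵 : AlgSt.Cat S} {X : Over S} (x : FibCat.overCat X ⥤ᵇ 𝒵) {D D' : Over S} (p : D' ⟶ D)

/-- An object with a point of `D` and compatible lifts to the chart over `D'`. -/
structure QObj : Type (u + 1) where
  /-- the object -/
  z : 𝒵.obj
  /-- the point of `D` -/
  a : 𝒵.p.obj z ⟶ D
  /-- the points of the chart -/
  u : ∀ (W : Over S) (k : W ⟶ 𝒵.p.obj z) (l : W ⟶ D'), k ≫ a = l ≫ p → (W ⟶ X)
  /-- the comparisons -/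
  χ : ∀ (W : Over S) (k : W ⟶ 𝒵.p.obj z) (l : W ⟶ D') (h : k ≫ a = l ≫ p), x.obj (Over.mk (u W k l h)) ⟶ z
  hχ : ∀ (W : Over S) (k : W ⟶ 𝒵.p.obj z) (l : W ⟶ D') (h : k ≫ a = l ≫ p), 𝒵.p.IsHomLift k (χ W k l h)
  u_nat : ∀ (W W' : Over S) (g : W' ⟶ W) (k : W ⟶ 𝒵.p.obj z) (l : W ⟶ D') (k' : W' ⟶ 𝒵.p.obj z) (l' : W' ⟶ D')
    (h : k ≫ a = l ≫ p) (h' : k' ≫ a = l' ≫ p), g ≫ k = k' → g ≫ l = l' → g ≫ u W k l h = u W' k' l' h'
  χ_nat : ∀ (W W' : Over S) (g : W' ⟶ W) (k : W ⟶ 𝒵.p.obj z) (l : W ⟶ D') (k' : W' ⟶ 𝒵.p.obj z) (l' : W' ⟶ D')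
    (h : k ≫ a = l ≫ p) (h' : k' ≫ a = l' ≫ p) (e : g ≫ k = k') (e' : g ≫ l = l'),
    hm x g (u_nat W W' g k l k' l' h h' e e') ≫ χ W k l h = χ W' k' l' h'

variable {x p}

theorem lift_congr {A B : Over S} {k k' : A ⟶ B} (e : k = k') {a b : 𝒵.obj} {φ : a ⟶ b}
    (h : 𝒵.p.IsHomLift k φ) : 𝒵.p.IsHomLift k' φ := e ▸ h

/-- A morphism of objects with lifts. -/
@[ext]
structure QHom (q q' : QObj x p) : Type u where
  /-- the morphism -/
  f : q.z ⟶ q'.z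
  ha : 𝒵.p.map f ≫ q'.a = q.a
  hu : ∀ (W : Over S) (k : W ⟶ 𝒵.p.obj q.z) (k' : W ⟶ 𝒵.p.obj q'.z) (l : W ⟶ D') (h : k ≫ q.a = l ≫ p)
    (h' : k' ≫ q'.a = l ≫ p), k ≫ 𝒵.p.map f = k' → 𝟙 W ≫ q'.u W k' l h' = q.u W k l h
  hχ : ∀ (W : Over S) (k : W ⟶ 𝒵.p.obj q.z) (k' : W ⟶ 𝒵.p.obj q'.z) (l : W ⟶ D') (h : k ≫ q.a = l ≫ p)
    (h' : k' ≫ q'.a = l ≫ p) (e : k ≫ 𝒵.p.map f = k'),
    q.χ W k l h ≫ f = hm x (𝟙 W) (hu W k k' l h h' e) ≫ q'.χ W k' l h'

instance : Category.{u} (QObj x p) where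
  Hom := QHom
  id q :=
    { f := 𝟙 q.z
      ha := by simp
      hu := fun W k k' l h h' e => q.u_nat W W (𝟙 W) k' l k l h' h (by simpa using e.symm) (Category.id_comp l)
      hχ := fun W k k' l h h' e => by
        rw [Category.comp_id, q.χ_nat W W (𝟙 W) k' l k l h' h (by simpa using e.symm) (Category.id_comp l)] }
  comp {q q' q''} φ ψ :=
    have hmid : ∀ {W : Over S} {k : W ⟶ 𝒵.p.obj q.z} {l : W ⟶ D'}, k ≫ q.a = l ≫ p →
        (k ≫ 𝒵.p.map φ.f) ≫ q'.a = l ≫ p := fun {W k l} h => by rw [Category.assoc, φ.ha, h]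
    have hu : ∀ (W : Over S) (k : W ⟶ 𝒵.p.obj q.z) (k'' : W ⟶ 𝒵.p.obj q''.z) (l : W ⟶ D') (h : k ≫ q.a = l ≫ p)
        (h'' : k'' ≫ q''.a = l ≫ p), k ≫ 𝒵.p.map (φ.f ≫ ψ.f) = k'' → 𝟙 W ≫ q''.u W k'' l h'' = q.u W k l h :=
      fun W k k'' l h h'' e => by
        have h1 := φ.hu W k _ l h (hmid h) rfl
        have h2 := ψ.hu W _ k'' l (hmid h) h'' (by rw [Category.assoc, ← Functor.map_comp, e])
        rw [Category.id_comp] at h1 h2 ⊢
        rw [h2, h1]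
    { f := φ.f ≫ ψ.f
      ha := by rw [Functor.map_comp, Category.assoc, ψ.ha, φ.ha]
      hu := hu
      hχ := fun W k k'' l h h'' e => by
        rw [← Category.assoc, φ.hχ W k _ l h (hmid h) rfl, Category.assoc,
          ψ.hχ W _ k'' l (hmid h) h'' (by rw [Category.assoc, ← Functor.map_comp, e]), ← Category.assoc]
        congr 1
        exact hm_comp x (𝟙 W) (𝟙 W) _ _ (𝟙 W) (Category.id_comp _) }
  id_comp φ := QHom.ext (Category.id_comp _)
  comp_id φ := QHom.ext (Category.comp_id _)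
  assoc φ ψ χ := QHom.ext (Category.assoc _ _ _)

theorem QHom.ext' {q q' : QObj x p} {φ ψ : q ⟶ q'} (h : φ.f = ψ.f) : φ = ψ := QHom.ext h

variable (x p)

/-- The functor forgetting the lifts. -/
def qForget : QObj x p ⥤ 𝒵.obj where
  obj q := q.z
  map φ := φ.f

/-- The category over the base. -/
abbrev QCat : AlgSt.Cat S := BasedCategory.ofFunctor (qForget x p ⋙ 𝒵.p)

/-- The functor to the stack. -/
def qπ : QCat x p ⥤ᵇ 𝒵 := ⟨qForget x p, rfl⟩

theorem lift_of_qlift {q q' : QObj x p} (φ : q ⟶ q') {A B : Over S} (g : A ⟶ B)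
    (h : (QCat x p).p.IsHomLift g φ) : 𝒵.p.IsHomLift g φ.f :=
  (qπ x p).preserves_isHomLift g φ

theorem qlift_of_lift {q q' : QObj x p} (φ : q ⟶ q') {A B : Over S} (g : A ⟶ B) (h : 𝒵.p.IsHomLift g φ.f) :
    (QCat x p).p.IsHomLift g φ :=
  IsHomLift.of_fac' (QCat x p).p g φ (IsHomLift.domain_eq 𝒵.p g φ.f) (IsHomLift.codomain_eq 𝒵.p g φ.f)
    (IsHomLift.fac' 𝒵.p g φ.f)

variable {x p} [h𝒵 : FibCat.IsFibGrpd 𝒵.p]

/-- A morphism over `φ` exists once the underlying morphism is compatible with the comparisons. -/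
theorem exists_pullback (q : QObj x p) {z : 𝒵.obj} (φ : z ⟶ q.z) :
    ∃ (q' : QObj x p) (ψ : q' ⟶ q) (e : q'.z = z), ψ.f = eqToHom e ≫ φ := by
  have hh : ∀ {W : Over S} {k : W ⟶ 𝒵.p.obj z} {l : W ⟶ D'}, k ≫ 𝒵.p.map φ ≫ q.a = l ≫ p →
      (k ≫ 𝒵.p.map φ) ≫ q.a = l ≫ p := fun h => (Category.assoc _ _ _).trans h
  have hex : ∀ (W : Over S) (k : W ⟶ 𝒵.p.obj z) (l : W ⟶ D') (h : k ≫ 𝒵.p.map φ ≫ q.a = l ≫ p),
      ∃ χ : x.obj (Over.mk (q.u W (k ≫ 𝒵.p.map φ) l (hh h))) ⟶ z, 𝒵.p.IsHomLift k χ ∧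
        χ ≫ φ = q.χ W (k ≫ 𝒵.p.map φ) l (hh h) := fun W k l h => by
    have := q.hχ W (k ≫ 𝒵.p.map φ) l (hh h)
    exact exists_factor (𝒵.p.map φ) φ k (k ≫ 𝒵.p.map φ) rfl _
  choose χ hχ hχφ using hex
  have hn : ∀ (W W' : Over S) (g : W' ⟶ W) (k : W ⟶ 𝒵.p.obj z) (l : W ⟶ D') (k' : W' ⟶ 𝒵.p.obj z) (l' : W' ⟶ D')
      (h : k ≫ 𝒵.p.map φ ≫ q.a = l ≫ p) (h' : k' ≫ 𝒵.p.map φ ≫ q.a = l' ≫ p), g ≫ k = k' → g ≫ l = l' →
      g ≫ q.u W (k ≫ 𝒵.p.map φ) l (hh h) = q.u W' (k' ≫ 𝒵.p.map φ) l' (hh h') :=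
    fun W W' g k l k' l' h h' e e' => q.u_nat W W' g _ l _ l' _ _ (by rw [← Category.assoc, e]) e'
  refine ⟨⟨z, 𝒵.p.map φ ≫ q.a, fun W k l h => q.u W (k ≫ 𝒵.p.map φ) l (hh h), χ, hχ, hn,
    fun W W' g k l k' l' h h' e e' => ?_⟩, ⟨φ, rfl, fun W k k' l h h' e => ?_, fun W k k' l h h' e => ?_⟩, rfl,
    (by simp)⟩
  · have := hχ W k l h
    have := hχ W' k' l' h'
    have := hm_lift x g (hn W W' g k l k' l' h h' e e')
    have : 𝒵.p.IsHomLift k' (hm x g (hn W W' g k l k' l' h h' e e') ≫ χ W k l h) := lift_congr e inferInstance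
    refine cancel_lift (𝒵.p.map φ) φ k' ?_
    rw [Category.assoc, hχφ, hχφ]
    exact q.χ_nat W W' g _ l _ l' _ _ (by rw [← Category.assoc, e]) e'
  · exact q.u_nat W W (𝟙 W) k' l _ l h' _ (by rw [Category.id_comp, e]) (Category.id_comp l)
  · rw [hχφ]
    exact (q.χ_nat W W (𝟙 W) k' l _ l h' _ (by rw [Category.id_comp, e]) (Category.id_comp l)).symm

variable (x p) in
theorem isFibGrpd_QCat : FibCat.IsFibGrpd (QCat x p).p where
  exists_lift {q T} g := by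
    obtain ⟨z, φ, hφ⟩ := h𝒵.exists_lift (x := q.z) g
    obtain ⟨q', ψ, e, he⟩ := exists_pullback q φ
    exact ⟨q', ψ, qlift_of_lift x p ψ g (by rw [he]; infer_instance)⟩
  isStronglyCartesian {q q'} ψ :=
    haveI : (QCat x p).p.IsHomLift ((QCat x p).p.map ψ) ψ := IsHomLift.map _ _
    { universal_property' := fun {r} g t ht => by
        have ht' : 𝒵.p.IsHomLift (g ≫ 𝒵.p.map ψ.f) t.f := lift_of_qlift x p t _ ht
        obtain ⟨χ, hχ, hχψ⟩ := exists_factor (𝒵.p.map ψ.f) ψ.f g (g ≫ 𝒵.p.map ψ.f) rfl t.f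
        have hg : 𝒵.p.map χ = g := (IsHomLift.eq_of_isHomLift 𝒵.p g χ).symm
        have ha : 𝒵.p.map χ ≫ q.a = r.a := by rw [← ψ.ha, ← Category.assoc, ← Functor.map_comp, hχψ, t.ha]
        have hm' : ∀ {W : Over S} {k' : W ⟶ 𝒵.p.obj q.z} {l : W ⟶ D'}, k' ≫ q.a = l ≫ p →
            (k' ≫ 𝒵.p.map ψ.f) ≫ q'.a = l ≫ p := fun h => by rw [Category.assoc, ψ.ha, h]
        have hu : ∀ (W : Over S) (k : W ⟶ 𝒵.p.obj r.z) (k' : W ⟶ 𝒵.p.obj q.z) (l : W ⟶ D') (h : k ≫ r.a = l ≫ p)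
            (h' : k' ≫ q.a = l ≫ p), k ≫ 𝒵.p.map χ = k' → 𝟙 W ≫ q.u W k' l h' = r.u W k l h :=
          fun W k k' l h h' e => by
            have h1 := ψ.hu W k' _ l h' (hm' h') rfl
            have h2 := t.hu W k (k' ≫ 𝒵.p.map ψ.f) l h (hm' h')
              (by rw [← e, Category.assoc, ← Functor.map_comp, hχψ])
            rw [Category.id_comp] at h1 h2 ⊢
            rw [← h1, h2]
        let χ' : r ⟶ q := ⟨χ, ha, hu, fun W k k' l h h' e => by
          have := r.hχ W k l h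
          have := q.hχ W k' l h'
          have := hm_lift x (𝟙 W) (hu W k k' l h h' e)
          have : 𝒵.p.IsHomLift k' (r.χ W k l h ≫ χ) := by rw [← e, hg]; infer_instance
          have : 𝒵.p.IsHomLift k' (hm x (𝟙 W) (hu W k k' l h h' e) ≫ q.χ W k' l h') := by
            simpa using IsHomLift.comp 𝒵.p (𝟙 W) k' (hm x (𝟙 W) (hu W k k' l h h' e)) (q.χ W k' l h')
          refine cancel_lift (𝒵.p.map ψ.f) ψ.f k' ?_
          have ek : k ≫ 𝒵.p.map t.f = k' ≫ 𝒵.p.map ψ.f := by rw [← e, Category.assoc, ← Functor.map_comp, hχψ]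
          refine (Category.assoc _ _ _).trans ((congrArg (_ ≫ ·) hχψ).trans
            ((t.hχ W k (k' ≫ 𝒵.p.map ψ.f) l h (hm' h') ek).trans ?_))
          refine Eq.trans ?_ ((Category.assoc _ _ _).trans
            (congrArg (_ ≫ ·) (ψ.hχ W k' _ l h' (hm' h') rfl))).symm
          refine Eq.trans (congrArg (· ≫ _) (Eq.symm ?_)) (Category.assoc _ _ _)
          exact hm_comp x (𝟙 W) (𝟙 W) _ _ (𝟙 W) (Category.id_comp _)⟩
        refine ⟨χ', ⟨qlift_of_lift x p χ' g hχ, QHom.ext' hχψ⟩, ?_⟩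
        rintro n ⟨hn, hn'⟩
        have := lift_of_qlift x p n g hn
        exact QHom.ext' (cancel_lift (𝒵.p.map ψ.f) ψ.f g ((congrArg QHom.f hn').trans hχψ.symm)) }

omit h𝒵 in
/-- A sieve containing an etale surjection covers for the etale topology. -/
theorem mem_Jet_of_etale {T T' : Over S} (g : T' ⟶ T) [Etale g.left] [Surjective g.left] (R : Sieve T) (h : R g) :
    R ∈ QuotSh.J Scheme.etalePrecoverage S T := by
  rw [GrothendieckTopology.mem_over_iff]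
  have hmem : Presieve.ofArrows (fun _ : PUnit.{u + 1} => T'.left) (fun _ => g.left) ∈
      Scheme.etalePrecoverage T.left :=
    (Scheme.ofArrows_mem_precoverage_iff @Etale).2 ⟨fun t => ⟨⟨⟩, g.left.surjective t⟩, fun _ => inferInstance⟩
  refine GrothendieckTopology.superset_covering _ ?_ (Precoverage.generate_mem_toGrothendieck hmem)
  rw [Sieve.generate_le_iff]
  rintro _ _ ⟨⟩
  rw [Sieve.overEquiv_iff]
  convert R.downward_closed h (Over.homMk (U := Over.mk (g.left ≫ T.hom)) (V := T') (𝟙 T'.left) (by simp)) using 1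
  ext
  simp

variable (x p) in
/-- Descent along `D' → D` makes the category a category fibred in setoids. -/
theorem isFibSetoid_QCat (hst : Stk.IsStack (QuotSh.J Scheme.etalePrecoverage S) 𝒵) [Etale p.left]
    [Surjective p.left] :
    FibCat.IsFibSetoid (QCat x p).p := by
  refine isFibSetoid_iff.2 ⟨isFibGrpd_QCat x p, ⟨fun {q q'} φ φ' e => QHom.ext' ?_⟩⟩
  have e' : 𝒵.p.map φ.f = 𝒵.p.map φ'.f := e
  obtain ⟨w, ψ, hψ⟩ := h𝒵.exists_lift (x := q'.z) (𝒵.p.map φ.f)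
  haveI : 𝒵.p.IsHomLift (𝒵.p.map φ.f) φ.f := IsHomLift.map _ _
  haveI : 𝒵.p.IsHomLift (𝒵.p.map φ.f) φ'.f := by rw [e']; exact IsHomLift.map _ _
  obtain ⟨a, ha, haψ⟩ := exists_factor (𝒵.p.map φ.f) ψ (𝟙 (𝒵.p.obj q.z)) (𝒵.p.map φ.f) (Category.id_comp _) φ.f
  obtain ⟨a', ha', haψ'⟩ := exists_factor (𝒵.p.map φ.f) ψ (𝟙 (𝒵.p.obj q.z)) (𝒵.p.map φ.f) (Category.id_comp _) φ'.f
  rw [← haψ, ← haψ']
  congr 1
  let R : Sieve (𝒵.p.obj q.z) :=
    { arrows := fun W k => ∃ l : W ⟶ D', k ≫ q.a = l ≫ p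
      downward_closed := fun {W W' k} ⟨l, hl⟩ g => ⟨g ≫ l, by rw [Category.assoc, hl, Category.assoc]⟩ }
  have hR : R ∈ QuotSh.J Scheme.etalePrecoverage S (𝒵.p.obj q.z) := by
    have sq := (IsPullback.of_hasPullback q.a p).map (Over.forget S)
    haveI : Etale (pullback.fst q.a p).left := MorphismProperty.of_isPullback sq.flip ‹Etale p.left›
    haveI : Surjective (pullback.fst q.a p).left := MorphismProperty.of_isPullback sq.flip ‹Surjective p.left›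
    exact mem_Jet_of_etale (pullback.fst q.a p) R ⟨pullback.snd q.a p, pullback.condition⟩
  refine StkLib.hom_ext_of_prestackFor h𝒵 (R := R) (hst.2 R hR).faithful a a' ha ha' fun W k hk => ?_
  obtain ⟨l, hl⟩ := hk
  have := q.hχ W k l hl
  refine ⟨_, q.χ W k l hl, inferInstance, ?_⟩
  haveI := ha
  haveI := ha'
  have : 𝒵.p.IsHomLift k (q.χ W k l hl ≫ a) := IsHomLift.comp_lift_id_right' 𝒵.p k (q.χ W k l hl) (𝒵.p.obj q.z) a
  have : 𝒵.p.IsHomLift k (q.χ W k l hl ≫ a') := IsHomLift.comp_lift_id_right' 𝒵.p k (q.χ W k l hl) (𝒵.p.obj q.z) a'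
  refine cancel_lift (𝒵.p.map φ.f) ψ k ?_
  have h1 : (k ≫ 𝒵.p.map φ.f) ≫ q'.a = l ≫ p := by rw [Category.assoc, φ.ha, hl]
  rw [Category.assoc, haψ, Category.assoc, haψ', φ.hχ W k _ l hl h1 rfl, φ'.hχ W k _ l hl h1 (by rw [e'])]

section Rep

variable {V : Over S} (y : FibCat.overCat V ⥤ᵇ 𝒵)

local notation "G₀" => resPsh p (triPsh x y) (triQ x y)

/-- A section of the restriction of scalars with its natural comparisons. -/
theorem pt_χ_nat {T : Over S} (g : Pt p (triPsh x y) (triQ x y) T) (W W' : Over S) (k₀ : W ⟶ T) (k₁ : W' ⟶ T)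
    (l : W ⟶ D') (l' : W' ⟶ D') (j : W' ⟶ W) (h : k₀ ≫ g.a = l ≫ p) (h' : k₁ ≫ g.a = l' ≫ p) (e : j ≫ k₀ = k₁)
    (e' : j ≫ l = l') :
    ∃ (hu : j ≫ (g.b W k₀ l h : Tri x y W).u = (g.b W' k₁ l' h' : Tri x y W').u)
      (ht : j ≫ (g.b W k₀ l h : Tri x y W).t = (g.b W' k₁ l' h' : Tri x y W').t),
      (g.b W' k₁ l' h' : Tri x y W').ι ≫ hm y j ht = hm x j hu ≫ (g.b W k₀ l h : Tri x y W).ι := by
  subst e e'
  obtain ⟨h1, h2, h3⟩ := triPsh_map x y j (g.b W k₀ l h)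
  have := g.nat W W' j k₀ l h h'
  revert h1 h2 h3
  rw [this]
  exact fun h1 h2 h3 => ⟨h2, h1, h3⟩

theorem pt_t {T : Over S} (g : Pt p (triPsh x y) (triQ x y) T) (W : Over S) (k : W ⟶ T) (l : W ⟶ D')
    (h : k ≫ g.a = l ≫ p) : k ≫ g.t = (g.b W k l h : Tri x y W).t :=
  (congrArg ULift.down (g.qb W k l h)).symm

/-- The object of a section. -/
noncomputable def qOfPt {T : Over S} (g : Pt p (triPsh x y) (triQ x y) T) : QObj x p where
  z := y.obj (Over.mk g.t)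
  a := eqToHom (y.w_obj (Over.mk g.t)) ≫ g.a
  u W k l h := (g.b W (k ≫ eqToHom (y.w_obj (Over.mk g.t))) l ((Category.assoc _ _ _).trans h) : Tri x y W).u
  χ W k l h := (g.b W (k ≫ eqToHom (y.w_obj (Over.mk g.t))) l ((Category.assoc _ _ _).trans h) : Tri x y W).ι ≫
    hm y (k ≫ eqToHom (y.w_obj (Over.mk g.t))) (pt_t y g _ _ _ _)
  hχ W k l h := by
    have := (g.b W (k ≫ eqToHom (y.w_obj (Over.mk g.t))) l ((Category.assoc _ _ _).trans h) : Tri x y W).hι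
    have := hm_lift y (k ≫ eqToHom (y.w_obj (Over.mk g.t))) (pt_t y g W _ l ((Category.assoc _ _ _).trans h))
    have h1 := IsHomLift.comp 𝒵.p (𝟙 W) (k ≫ eqToHom (y.w_obj (Over.mk g.t)))
      (g.b W (k ≫ eqToHom (y.w_obj (Over.mk g.t))) l ((Category.assoc _ _ _).trans h) : Tri x y W).ι
      (hm y (k ≫ eqToHom (y.w_obj (Over.mk g.t))) (pt_t y g W _ l ((Category.assoc _ _ _).trans h)))
    rw [Category.id_comp] at h1
    exact (IsHomLift.lift_comp_eqToHom_iff 𝒵.p k _ _).1 h1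
  u_nat W W' j k l k' l' h h' e e' := (pt_χ_nat y g _ _ _ _ l l' j _ _ (by rw [← Category.assoc, e]) e').1
  χ_nat W W' j k l k' l' h h' e e' := by
    obtain ⟨hu, ht, h3⟩ := pt_χ_nat y g W W' (k ≫ eqToHom (y.w_obj (Over.mk g.t)))
      (k' ≫ eqToHom (y.w_obj (Over.mk g.t))) l l' j ((Category.assoc _ _ _).trans h) ((Category.assoc _ _ _).trans h')
      (by rw [← Category.assoc, e]) e'
    refine (Category.assoc _ _ _).symm.trans ((congrArg (· ≫ _) h3.symm).trans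
      ((Category.assoc _ _ _).trans (congrArg (_ ≫ ·) ?_)))
    exact hm_comp y j _ _ _ _ (by rw [← Category.assoc, e])

/-- The morphism of objects of a restriction. -/
noncomputable def qMap {T T' : Over S} (j : T' ⟶ T) {g : Pt p (triPsh x y) (triQ x y) T}
    {g' : Pt p (triPsh x y) (triQ x y) T'} (hg : Pt.res j g = g') : qOfPt y g' ⟶ qOfPt y g :=
  have hj : 𝒵.p.map (hm y j (congrArg Pt.t hg)) =
      eqToHom (y.w_obj (Over.mk g'.t)) ≫ j ≫ eqToHom (y.w_obj (Over.mk g.t)).symm :=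
    haveI := hm_lift y j (congrArg Pt.t hg)
    IsHomLift.fac' 𝒵.p j (hm y j (congrArg Pt.t hg))
  have hk : ∀ {W : Over S} {k : W ⟶ 𝒵.p.obj (y.obj (Over.mk g'.t))} {k' : W ⟶ 𝒵.p.obj (y.obj (Over.mk g.t))},
      k ≫ 𝒵.p.map (hm y j (congrArg Pt.t hg)) = k' →
      (k ≫ eqToHom (y.w_obj (Over.mk g'.t))) ≫ j = k' ≫ eqToHom (y.w_obj (Over.mk g.t)) := fun {W k k'} e => by
    rw [← e, hj]; simp
  have hb : ∀ (W : Over S) (k : W ⟶ 𝒵.p.obj (y.obj (Over.mk g'.t))) (k' : W ⟶ 𝒵.p.obj (y.obj (Over.mk g.t)))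
      (l : W ⟶ D') (h : (k ≫ eqToHom (y.w_obj (Over.mk g'.t))) ≫ g'.a = l ≫ p)
      (h' : (k' ≫ eqToHom (y.w_obj (Over.mk g.t))) ≫ g.a = l ≫ p),
      k ≫ 𝒵.p.map (hm y j (congrArg Pt.t hg)) = k' → g'.b W _ l h = g.b W _ l h' := fun W k k' l h h' e => by
    subst hg
    exact Pt.b_congr rfl (hk e) rfl _ _
  { f := hm y j (congrArg Pt.t hg)
    ha := by
      show 𝒵.p.map (hm y j (congrArg Pt.t hg)) ≫ eqToHom _ ≫ g.a = eqToHom _ ≫ g'.a
      rw [hj, ← congrArg Pt.a hg]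
      simp [Pt.res]
    hu := fun W k k' l h h' e => (Category.id_comp _).trans (congrArg Tri.u (hb W k k' l _ _ e).symm)
    hχ := fun W k k' l h h' e => by
      obtain ⟨hu, ht, h3⟩ := pt_χ_nat y g W W _ _ l l (𝟙 W) ((Category.assoc _ _ _).trans h')
        ((Category.assoc _ _ _).trans h') (Category.id_comp _) (Category.id_comp _)
      have key : ∀ (s s' : Tri x y W) (es : s = s') (w : 𝟙 W ≫ s'.u = s.u)
          {c : 𝒵.obj} (m : y.obj (Over.mk s.t) ⟶ c) (m' : y.obj (Over.mk s'.t) ⟶ c),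
          hm y (𝟙 W) (by rw [es, Category.id_comp]) ≫ m' = m → s.ι ≫ m = hm x (𝟙 W) w ≫ s'.ι ≫ m' := by
        rintro s _ rfl w c m m' rfl
        rw [hm_id, hm_id, Category.id_comp, Category.id_comp]
      refine (Category.assoc _ _ _).trans ((congrArg (_ ≫ ·) (hm_comp y _ j _ (congrArg Pt.t hg) _ (hk e))).trans ?_)
      exact key _ _ (hb W k k' l _ _ e) _ _ _ (hm_comp y (𝟙 W) _ _ _ _ (Category.id_comp _)) }

/-- The functor to the fibre product. -/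
noncomputable def gToFp : Stk.ofPsh G₀ ⥤ᵇ FibCat.fp y (qπ x p) where
  toFunctor :=
    { obj := fun ξ => ⟨{ fst := Over.mk (Pt.t ξ.sec), snd := qOfPt y ξ.sec, iso := Iso.refl _ },
        IsHomLift.id (y.w_obj (Over.mk (Pt.t ξ.sec)))⟩
      map := fun {ξ η} φ => ObjectProperty.homMk
        { fst := Over.homMk φ.hom (congrArg Pt.t φ.map_sec)
          snd := qMap y φ.hom φ.map_sec
          w := (Category.comp_id _).trans (Category.id_comp _).symm }
      map_id := fun ξ => ObjectProperty.hom_ext _ (CategoricalPullback.hom_ext (Over.OverMorphism.ext rfl)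
        (QHom.ext' (hm_id y _ _)))
      map_comp := fun φ ψ => ObjectProperty.hom_ext _ (CategoricalPullback.hom_ext (Over.OverMorphism.ext rfl)
        (QHom.ext' (hm_comp y _ _ _ _ _ rfl).symm)) }
  w := rfl

theorem gToFp_isEquivOver : FibCat.IsEquivOver (gToFp (p := p) (x := x) y) := by
  refine isEquivOver_of_exists_iso _ ⟨fun {ξ η} φ => ?_⟩ ⟨fun {ξ η} φ φ' e => ?_⟩ fun o => ?_
  · let j : ξ.base ⟶ η.base := φ.hom.fst.left
    have hsnd : φ.hom.snd.f = y.map φ.hom.fst :=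
      (Category.id_comp _).symm.trans (φ.hom.w.symm.trans (Category.comp_id _))
    have hsnd' : φ.hom.snd.f = hm y j (Over.w φ.hom.fst) := hsnd.trans (congrArg y.map (Over.OverMorphism.ext rfl))
    have hj : 𝒵.p.map φ.hom.snd.f =
        eqToHom (y.w_obj (Over.mk (Pt.t ξ.sec))) ≫ j ≫ eqToHom (y.w_obj (Over.mk (Pt.t η.sec))).symm := by
      rw [hsnd']
      haveI := hm_lift y j (Over.w φ.hom.fst : j ≫ Pt.t η.sec = Pt.t ξ.sec)
      exact IsHomLift.fac' 𝒵.p j (hm y j (Over.w φ.hom.fst : j ≫ Pt.t η.sec = Pt.t ξ.sec))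
    have ea : j ≫ Pt.a η.sec = Pt.a ξ.sec := by
      have := φ.hom.snd.ha
      rw [hj] at this
      refine (cancel_epi (eqToHom (y.w_obj (Over.mk (Pt.t ξ.sec))))).1 ?_
      simpa [gToFp, qOfPt] using this
    have et : j ≫ Pt.t η.sec = Pt.t ξ.sec := Over.w φ.hom.fst
    refine ⟨⟨j, Pt.ext' et ea fun W k l h h' => ?_⟩, ?_⟩
    · show η.sec.b W (k ≫ j) l _ = ξ.sec.b W k l _
      let k₀ : W ⟶ 𝒵.p.obj (y.obj (Over.mk (Pt.t ξ.sec))) := k ≫ eqToHom (y.w_obj (Over.mk (Pt.t ξ.sec))).symm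
      let k₁ : W ⟶ 𝒵.p.obj (y.obj (Over.mk (Pt.t η.sec))) := (k ≫ j) ≫ eqToHom (y.w_obj (Over.mk (Pt.t η.sec))).symm
      have e₀ : k₀ ≫ eqToHom (y.w_obj (Over.mk (Pt.t ξ.sec))) = k := by simp [k₀]
      have e₁ : k₁ ≫ eqToHom (y.w_obj (Over.mk (Pt.t η.sec))) = k ≫ j := by simp [k₁]
      have hk₀ : k₀ ≫ (qOfPt y ξ.sec).a = l ≫ p := by
        show k₀ ≫ eqToHom _ ≫ _ = _
        rw [← Category.assoc, e₀]; exact h'
      have hk₁ : k₁ ≫ (qOfPt y η.sec).a = l ≫ p := by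
        show k₁ ≫ eqToHom _ ≫ _ = _
        rw [← Category.assoc, e₁, Category.assoc, ea]; exact h'
      have ek : k₀ ≫ 𝒵.p.map φ.hom.snd.f = k₁ := by rw [hj]; simp [k₀, k₁]
      have cu := φ.hom.snd.hu W k₀ k₁ l hk₀ hk₁ ek
      have cχ := φ.hom.snd.hχ W k₀ k₁ l hk₀ hk₁ ek
      rw [hsnd'] at cχ
      change (Tri.ι _ ≫ hm y _ _) ≫ _ = _ ≫ Tri.ι _ ≫ hm y _ _ at cχ
      replace cχ := ((Category.assoc _ _ _).trans (congrArg (_ ≫ ·) (hm_comp y _ j _ et _ rfl))).symm.trans cχ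
      have q₀ : ξ.sec.b W (k₀ ≫ eqToHom (y.w_obj (Over.mk (Pt.t ξ.sec)))) l ((Category.assoc _ _ _).trans hk₀) =
          ξ.sec.b W k l h' := Pt.b_congr rfl e₀ rfl _ _
      have q₁ : η.sec.b W (k₁ ≫ eqToHom (y.w_obj (Over.mk (Pt.t η.sec)))) l ((Category.assoc _ _ _).trans hk₁) =
          η.sec.b W (k ≫ j) l (by rw [Category.assoc, ea]; exact h') := Pt.b_congr rfl e₁ rfl _ _
      refine (q₁.symm.trans (Eq.trans ?_ q₀))
      have t₀ := pt_t y ξ.sec W _ l ((Category.assoc _ _ _).trans hk₀)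
      have t₁ := pt_t y η.sec W _ l ((Category.assoc _ _ _).trans hk₁)
      have htt : (k₁ ≫ eqToHom (y.w_obj (Over.mk (Pt.t η.sec)))) ≫ Pt.t η.sec =
          (k₀ ≫ eqToHom (y.w_obj (Over.mk (Pt.t ξ.sec)))) ≫ Pt.t ξ.sec := by
        rw [e₀, e₁, Category.assoc, et]
      refine (Tri.ext' ((t₀.symm.trans htt.symm).trans t₁) ((Category.id_comp _).symm.trans cu).symm ?_).symm
      have := (ξ.sec.b W _ l ((Category.assoc _ _ _).trans hk₀) : Tri x y W).hι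
      have := (η.sec.b W _ l ((Category.assoc _ _ _).trans hk₁) : Tri x y W).hι
      have := hm_lift y (k₁ ≫ eqToHom (y.w_obj (Over.mk (Pt.t η.sec)))) t₁
      have := hm_lift y (𝟙 W) ((Category.id_comp _).trans ((t₀.symm.trans htt.symm).trans t₁).symm)
      have := hm_lift x (𝟙 W) cu
      refine cancel_lift (k₁ ≫ eqToHom (y.w_obj (Over.mk (Pt.t η.sec)))) (hm y _ t₁) (𝟙 W) ?_
      refine (Category.assoc _ _ _).trans ((congrArg (_ ≫ ·) ((hm_comp y (𝟙 W) _ _ t₁ _ (Category.id_comp _)).trans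
        ?_)).trans (cχ.trans (Category.assoc _ _ _).symm))
      exact congrArg y.map (Over.OverMorphism.ext (by
        show k₁ ≫ eqToHom _ = (k₀ ≫ eqToHom _) ≫ j
        rw [e₀, e₁]))
    · exact ObjectProperty.hom_ext _ (CategoricalPullback.hom_ext (Over.OverMorphism.ext rfl)
        (QHom.ext' hsnd'.symm))
  · exact Stk.EltObj.hom_ext (congrArg (fun f : (gToFp y).obj ξ ⟶ (gToFp y).obj η => f.hom.fst.left) e)
  · obtain ⟨⟨o, q, e⟩, he⟩ := o
    have he' : 𝒵.p.IsHomLift (𝟙 (Over.left o)) e.hom := he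
    change y.obj o ≅ q.z at e
    let e' : y.obj (Over.mk o.hom) ⟶ q.z := e.hom
    have : 𝒵.p.IsHomLift (𝟙 (Over.left o)) e' := he'
    let m : Over.left o ⟶ 𝒵.p.obj q.z := eqToHom (IsHomLift.codomain_eq 𝒵.p (𝟙 (Over.left o)) e').symm
    have hkm : ∀ {W : Over S} {k : W ⟶ Over.left o} {l : W ⟶ D'}, k ≫ m ≫ q.a = l ≫ p →
        (k ≫ m) ≫ q.a = l ≫ p := fun h => (Category.assoc _ _ _).trans h
    have hex : ∀ (W : Over S) (k : W ⟶ Over.left o) (l : W ⟶ D') (h : k ≫ m ≫ q.a = l ≫ p),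
        ∃ ι : x.obj (Over.mk (q.u W (k ≫ m) l (hkm h))) ⟶ y.obj (Over.mk (k ≫ o.hom)),
          𝒵.p.IsHomLift (𝟙 W) ι ∧ ι ≫ hm y k rfl ≫ e' = q.χ W (k ≫ m) l (hkm h) := fun W k l h => by
      have := hm_lift y k (rfl : k ≫ o.hom = k ≫ o.hom)
      have : 𝒵.p.IsHomLift k (hm y k (rfl : k ≫ o.hom = k ≫ o.hom) ≫ e') :=
        IsHomLift.comp_lift_id_right' 𝒵.p k (hm y k (rfl : k ≫ o.hom = k ≫ o.hom)) (Over.left o) e'
      have hc := q.hχ W (k ≫ m) l (hkm h)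
      have : 𝒵.p.IsHomLift k (q.χ W (k ≫ m) l (hkm h)) := (IsHomLift.lift_comp_eqToHom_iff 𝒵.p k _ _).1 hc
      exact exists_factor k (hm y k rfl ≫ e') (𝟙 W) k (Category.id_comp k) _
    choose ι hι hιχ using hex
    let g : Pt p (triPsh x y) (triQ x y) (Over.left o) :=
      { t := o.hom
        a := m ≫ q.a
        b := fun W k l h => (⟨k ≫ o.hom, q.u W (k ≫ m) l (hkm h), ι W k l h, hι W k l h⟩ : Tri x y W)
        nat := fun W W' j k l h h' => by
          obtain ⟨ht, hu, h3⟩ := triPsh_map x y j (⟨k ≫ o.hom, q.u W (k ≫ m) l (hkm h), ι W k l h, hι W k l h⟩ : Tri x y W)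
          refine tri_unique j ht hu h3 (b' := (⟨_, _, _, hι W' (j ≫ k) (j ≫ l) h'⟩ : Tri x y W'))
            (Category.assoc j k o.hom).symm (q.u_nat W W' j _ _ _ _ _ _ (Category.assoc _ _ _).symm rfl) ?_
          have := hι W k l h
          have := hι W' (j ≫ k) (j ≫ l) h'
          have := hm_lift y j (Category.assoc j k o.hom).symm
          have := hm_lift x j (q.u_nat W W' j (k ≫ m) l ((j ≫ k) ≫ m) (j ≫ l) (hkm h) (hkm h') (Category.assoc _ _ _).symm rfl)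
          have : 𝒵.p.IsHomLift j (ι W' (j ≫ k) (j ≫ l) h' ≫ hm y j (Category.assoc j k o.hom).symm) := by
            simpa using IsHomLift.comp 𝒵.p (𝟙 W') j (ι W' (j ≫ k) (j ≫ l) h') (hm y j (Category.assoc j k o.hom).symm)
          have : 𝒵.p.IsHomLift j (hm x j (q.u_nat W W' j (k ≫ m) l ((j ≫ k) ≫ m) (j ≫ l) (hkm h) (hkm h')
              (Category.assoc _ _ _).symm rfl) ≫ ι W k l h) := IsHomLift.comp_lift_id_right' 𝒵.p j _ W (ι W k l h)
          have := hm_lift y k (rfl : k ≫ o.hom = k ≫ o.hom)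
          have : 𝒵.p.IsHomLift k (hm y k (rfl : k ≫ o.hom = k ≫ o.hom) ≫ e') :=
            IsHomLift.comp_lift_id_right' 𝒵.p k (hm y k (rfl : k ≫ o.hom = k ≫ o.hom)) (Over.left o) e'
          refine cancel_lift k (hm y k rfl ≫ e') j ?_
          refine (Category.assoc _ _ _).trans ((congrArg (ι W' (j ≫ k) (j ≫ l) h' ≫ ·) ((Category.assoc _ _ _).symm.trans
            (congrArg (· ≫ e') (hm_comp y j k _ rfl (j ≫ k) rfl)))).trans ((hιχ W' (j ≫ k) (j ≫ l) h').trans ?_))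
          refine Eq.trans ?_ ((Category.assoc _ _ _).trans (congrArg (_ ≫ ·) (hιχ W k l h))).symm
          exact (q.χ_nat W W' j _ _ _ _ _ _ (Category.assoc _ _ _).symm rfl).symm
        qb := fun W k l h => rfl }
    have hfm : 𝒵.p.map e' = eqToHom (y.w_obj (Over.mk o.hom)) ≫ m :=
      (IsHomLift.fac' 𝒵.p (𝟙 (Over.left o)) e').trans (by rw [Category.id_comp])
    have hk' : ∀ {W : Over S} {k : W ⟶ 𝒵.p.obj (y.obj (Over.mk o.hom))} {k' : W ⟶ 𝒵.p.obj q.z},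
        k ≫ 𝒵.p.map e' = k' → (k ≫ eqToHom (y.w_obj (Over.mk o.hom))) ≫ m = k' := fun e => by
      rw [← e, hfm, Category.assoc]
    let φ : qOfPt y g ⟶ q :=
      { f := e'
        ha := by rw [hfm]; exact Category.assoc _ _ _
        hu := fun W k k' l h h' e => q.u_nat W W (𝟙 W) k' l _ l h' _ ((Category.id_comp _).trans (hk' e).symm)
          (Category.id_comp l)
        hχ := fun W k k' l h h' e => by
          refine ((Category.assoc _ _ _).trans (hιχ W _ l ((Category.assoc _ _ _).trans h))).trans ?_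
          exact (q.χ_nat W W (𝟙 W) k' l _ l h' _ ((Category.id_comp _).trans (hk' e).symm) (Category.id_comp l)).symm }
    haveI : IsIso e' := inferInstanceAs (IsIso e.hom)
    haveI : IsIso φ := by
      have hp : (QCat x p).p.IsHomLift (𝟙 (Over.left o)) φ := qlift_of_lift x p φ _ ‹_›
      exact isIso_of_lift (hp := isFibGrpd_QCat x p) (𝟙 (Over.left o)) φ
    refine ⟨⟨Over.left o, g⟩, ObjectProperty.isoMk _ (CategoricalPullback.mkIso (Iso.refl _) (asIso φ) ?_), ?_⟩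
    · show y.map (𝟙 _) ≫ e.hom = 𝟙 _ ≫ e'
      rw [y.toFunctor.map_id]
      rfl
    · apply isHomLift_id_of_map_eq (p := (FibCat.fp y (qπ x p)).p)
      all_goals rfl

end Rep

variable (x p) in
/-- Forgetting the lifts is representable and smooth. -/
theorem qπ_smooth [IsFinite p.left] [Etale p.left] [Smooth D.hom] (hx : AlgSt.RepByAlgSpWith (LocP @Smooth) x) :
    AlgSt.RepByAlgSpWith (LocP @Smooth) (qπ x p) := by
  intro V y
  obtain ⟨h, hA, hq⟩ := tri_space x y stableBC_locP hx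
  obtain ⟨hG, hGA, hs⟩ := resPsh_space_of_finite_etale p (⟨_, h⟩ : Sp S) (ObjectProperty.homMk (triQ x y)) hA hq
  refine ⟨⟨⟨_, hG⟩, hGA⟩, gToFp y, gToFp_isEquivOver y, ?_⟩
  convert hs using 1
  refine ObjectProperty.hom_ext _ (NatTrans.ext (funext fun W => ?_))
  ext g
  exact congrArg ULift.up (Category.id_comp _)

variable (x p) in
/-- The category of lifts is an algebraic space. -/
theorem repByAlgSp_QCat [IsFinite p.left] [Etale p.left] [Surjective p.left] [Smooth D.hom]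
    (h : AlgSt.IsAlgStack Scheme.etalePrecoverage 𝒵) (hx : AlgSt.RepByAlgSpWith (LocP @Smooth) x) :
    AlgSt.RepByAlgSp (QCat x p) := by
  have hg := isFibGrpd_QCat x p
  have hj := repByAlgSp1_of_repByAlgSpWith (qπ_smooth x p hx)
  refine S16832.repByAlgSp_of_setoid ⟨?_, ?_, ?_⟩ (isFibSetoid_QCat x p h.isStack)
  · refine Groth.Agent.StkLib.isStack_of_fibres _ hg h.isStack (qπ x p) fun U y => ?_
    have hs : Stk.IsStack (QuotSh.J Scheme.etalePrecoverage S) (FibCat.fp y (qπ x p)) :=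
      isStack_etale_of_fppf (isStack_of_repByAlgSp (hj U y))
    have hU : Stk.IsStack (QuotSh.J Scheme.etalePrecoverage S) (FibCat.overCat U : AlgSt.Cat S) :=
      isStack_etale_of_fppf (isStack_of_repByAlgSp (repByAlgSp_overCat U))
    have hG : FibCat.IsFibGrpd (FibCat.fpFst y (qπ x p)).toFunctor := isFibGrpd_of_comp (isFibSet_overForget U) hs.1
    have h' := Groth.Agent.StkLib.isStack_ofFunctor _ hs (Groth.Agent.StkLib.isPrestack_of_isStack hU)
      (FibCat.fpFst y (qπ x p)) hG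
    exact ⟨h'.1, fun z R hR => h'.2 R ((Groth.Agent.StkLib.mem_restrictedTopology_iff hU.1 _ R).2
      ((GrothendieckTopology.mem_over_iff _ _).1 hR))⟩
  · exact repByAlgSp1_diag_congr (comp_toSelf (qπ x p)).symm (repByAlgSp1_diag_comp hg h.isStack.1
      (repByAlgSp1_iff_top.2 (repByAlgSpWith_diag_of_repByAlgSp1 stableBC_top hj fun _ _ _ _ _ _ => trivial)) h.diag)
  · obtain ⟨V, y, hy, hy'⟩ := h.atlas
    obtain ⟨W, e, he⟩ := hj V y
    exact hasAtlas_of_space etale_le_smooth W (BasedFunctor.comp e (FibCat.fpSnd y (qπ x p)))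
      (repByAlgSpWith_precomp he (repByAlgSpWith_fpSnd (qπ x p) hy))
      (repByAlgSpWith_precomp he (repByAlgSpWith_fpSnd (qπ x p) hy'))

end Groth.Agent.StChart
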