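import Groth.Agent.AlgStLib.SmoothBootstrap
import Groth.Agent.AlgSpDec.Glue
import Groth.Agent.AlgSpLib.Rep
import Groth.Agent.AlgStLib.SheafGlue
import Groth.Agent.AlgSpDec.SpQuot

/-!
# Restriction of scalars of a sheaf along a split-locally finite morphism
-/

set_option autoImplicit false
set_option backward.isDefEq.respectTransparency false
set_option backward.isDefEq.respectTransparency.types false

universe u

open CategoryTheory Limits Opposite AlgebraicGeometry AlgSp Groth.Agent.AlgSpLib Groth.Agent.AlgSpDec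

namespace Groth.Agent.StChart

variable {S : Scheme.{u}} {D D' V : Over S} (p : D' ⟶ D) (F : PSp S) (q : F ⟶ (pyon S).obj V)

/-- A point of `V` and `D` with sections of `F` over it on the pullback of `D'`. -/
structure Pt (T : Over S) : Type (u + 1) where
  /-- the point of `V` -/
  t : T ⟶ V
  /-- the point of `D` -/
  a : T ⟶ D
  /-- the sections -/
  b : ∀ (W : Over S) (k : W ⟶ T) (l : W ⟶ D'), k ≫ a = l ≫ p → F.obj (op W)
  nat : ∀ (W W' : Over S) (g : W' ⟶ W) (k : W ⟶ T) (l : W ⟶ D') (h : k ≫ a = l ≫ p)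
    (h' : (g ≫ k) ≫ a = (g ≫ l) ≫ p), F.map g.op (b W k l h) = b W' (g ≫ k) (g ≫ l) h'
  qb : ∀ (W : Over S) (k : W ⟶ T) (l : W ⟶ D') (h : k ≫ a = l ≫ p), q.app (op W) (b W k l h) = ⟨k ≫ t⟩

variable {p F q}

theorem Pt.b_congr {T : Over S} {x y : Pt p F q T} (e : x = y) {W : Over S} {k k' : W ⟶ T} (hk : k = k')
    {l l' : W ⟶ D'} (hl : l = l') (h : k ≫ x.a = l ≫ p) (h' : k' ≫ y.a = l' ≫ p) :
    x.b W k l h = y.b W k' l' h' := by
  subst e hk hl; rfl

theorem Pt.ext' {T : Over S} {x y : Pt p F q T} (ht : x.t = y.t) (ha : x.a = y.a)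
    (hb : ∀ (W : Over S) (k : W ⟶ T) (l : W ⟶ D') (h : k ≫ x.a = l ≫ p) (h' : k ≫ y.a = l ≫ p),
      x.b W k l h = y.b W k l h') : x = y := by
  obtain ⟨t, a, b, n, e⟩ := x
  obtain ⟨t', a', b', n', e'⟩ := y
  obtain rfl : t = t' := ht
  obtain rfl : a = a' := ha
  obtain rfl : b = b' := funext fun W => funext fun k => funext fun l => funext fun h => hb W k l h h
  rfl

/-- Precomposition. -/
def Pt.res {T T' : Over S} (g : T' ⟶ T) (x : Pt p F q T) : Pt p F q T' where
  t := g ≫ x.t
  a := g ≫ x.a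
  b W k l h := x.b W (k ≫ g) l (by rw [Category.assoc]; exact h)
  nat W W' g' k l h h' := by
    rw [x.nat W W' g' (k ≫ g) l _ (by simpa only [Category.assoc] using h')]
    exact Pt.b_congr rfl (Category.assoc _ _ _).symm rfl _ _
  qb W k l h := by rw [x.qb, Category.assoc]

variable (p F q) in
/-- The presheaf of restriction of scalars. -/
def resPsh : PSp S where
  obj T := Pt p F q T.unop
  map g := ↾(Pt.res g.unop)
  map_id T := by
    ext x
    refine Pt.ext' (T := T.unop) (Category.id_comp (Pt.t x)) (Category.id_comp (Pt.a x)) fun W k l h h' => ?_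
    exact Pt.b_congr rfl (Category.comp_id k) rfl _ _
  map_comp f g := by
    ext x
    refine Pt.ext' (Category.assoc _ _ (Pt.t x)) (Category.assoc _ _ (Pt.a x)) fun W k l h h' => ?_
    exact Pt.b_congr rfl (Category.assoc _ _ _).symm rfl _ _

variable (p F q) in
/-- The point of `D` of a section. -/
def resToD : resPsh p F q ⟶ (pyon S).obj D where
  app T := ↾fun x => ⟨Pt.a x⟩
  naturality _ _ _ := rfl

variable (p F q) in
/-- The point of `V` of a section. -/
def resToV : resPsh p F q ⟶ (pyon S).obj V where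
  app T := ↾fun x => ⟨Pt.t x⟩
  naturality _ _ _ := rfl

theorem isSheaf_pyon' (W : Over S) : Presieve.IsSheaf (J S) ((pyon S).obj W) :=
  (isSheaf_iff_isSheaf_of_type _ _).1 ((yon S).obj W).property

/-- A point of a representable presheaf glued from a compatible family. -/
theorem exists_glue_yon {W T : Over S} {R : Sieve T} (hR : R ∈ J S T) (m : ∀ ⦃Y : Over S⦄ (f : Y ⟶ T), R f → (Y ⟶ W))
    (hm : ∀ ⦃Y' Y : Over S⦄ (g : Y' ⟶ Y) (f : Y ⟶ T) (hf : R f), m (g ≫ f) (R.downward_closed hf g) = g ≫ m f hf) :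
    ∃ a : T ⟶ W, ∀ ⦃Y : Over S⦄ (f : Y ⟶ T) (hf : R f), f ≫ a = m f hf := by
  let fam : Presieve.FamilyOfElements ((pyon S).obj W) R.arrows := fun Y f hf => ⟨m f hf⟩
  have hfam : fam.Compatible := by
    rw [Presieve.compatible_iff_sieveCompatible]
    exact fun Y Y' f g hf => congrArg ULift.up (hm g f hf)
  obtain ⟨a, ha, -⟩ := (isSheaf_pyon' W R hR) fam hfam
  exact ⟨a.down, fun Y f hf => congrArg ULift.down (ha f hf)⟩

theorem yon_ext {W T : Over S} {R : Sieve T} (hR : R ∈ J S T) {a a' : T ⟶ W}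
    (h : ∀ ⦃Y : Over S⦄ (f : Y ⟶ T), R f → f ≫ a = f ≫ a') : a = a' :=
  congrArg ULift.down (((isSheaf_pyon' W) R hR).isSeparatedFor.ext
    (t₁ := (⟨a⟩ : ULift (T ⟶ W))) (t₂ := ⟨a'⟩) fun Y f hf => congrArg ULift.up (h f hf))

theorem isSheaf_resPsh (hF : Presieve.IsSheaf (J S) F) : Presieve.IsSheaf (J S) (resPsh p F q) := by
  intro T R hR x hx
  have hx' := (Presieve.compatible_iff_sieveCompatible x).1 hx
  have hg : ∀ ⦃Y' Y : Over S⦄ (g : Y' ⟶ Y) (f : Y ⟶ T) (hf : R f),
      x (g ≫ f) (R.downward_closed hf g) = Pt.res g (x f hf) := fun Y' Y g f hf => hx' f g hf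
  obtain ⟨t, ht⟩ := exists_glue_yon hR (fun Y f hf => (x f hf).t) fun Y' Y g f hf => congrArg Pt.t (hg g f hf)
  obtain ⟨a, ha⟩ := exists_glue_yon hR (fun Y f hf => (x f hf).a) fun Y' Y g f hf => congrArg Pt.a (hg g f hf)
  let fam : ∀ (W : Over S) (k : W ⟶ T) (l : W ⟶ D'), k ≫ a = l ≫ p →
      Presieve.FamilyOfElements F (R.pullback k).arrows := fun W k l h Y g hgk =>
    (x (g ≫ k) hgk).b Y (𝟙 Y) (g ≫ l) (by rw [Category.id_comp, ← ha, Category.assoc, h, Category.assoc])
  have hfam : ∀ W k l h, (fam W k l h).Compatible := fun W k l h => by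
    rw [Presieve.compatible_iff_sieveCompatible]
    intro Y Y' g g' hgk
    refine Eq.trans ?_ (Pt.nat _ Y Y' g' (𝟙 Y) (g ≫ l) _ (by
      rw [Category.comp_id, ← ha, ← Category.assoc, ← Category.assoc, Category.assoc _ k, h]
      simp only [Category.assoc])).symm
    refine (Pt.b_congr (y := Pt.res g' (x (g ≫ k) hgk)) ?_ rfl (Category.assoc _ _ _) _ (by
      show 𝟙 Y' ≫ g' ≫ (x (g ≫ k) hgk).a = (g' ≫ g ≫ l) ≫ p
      rw [← ha, Category.id_comp, Category.assoc g, h]
      simp only [Category.assoc])).trans (Pt.b_congr rfl ((Category.id_comp _).trans (Category.comp_id _).symm) rfl _ _)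
    rw [← hg]
    congr 1
  choose b hb hbu using fun W k l h => hF _ ((J S).pullback_stable k hR) (fam W k l h) (hfam W k l h)
  have hsep : ∀ {W : Over S} {R' : Sieve W}, R' ∈ J S W → ∀ s s' : F.obj (op W),
      (∀ ⦃Y : Over S⦄ (f : Y ⟶ W), R' f → F.map f.op s = F.map f.op s') → s = s' :=
    fun hR' s s' h => (hF _ hR').isSeparatedFor.ext h
  let z : Pt p F q T :=
    { t := t, a := a, b := b
      nat := fun W W' g k l h h' => by
        refine hsep ((J S).pullback_stable (g ≫ k) hR) _ _ fun Y f hf => ?_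
        rw [hb W' _ _ h' f hf, ← FunctorToTypes.map_comp_apply, ← op_comp,
          hb W k l h (f ≫ g) (by show R ((f ≫ g) ≫ k); rw [Category.assoc]; exact hf)]
        refine Pt.b_congr ?_ rfl (Category.assoc _ _ _) _ _
        congr 1
      qb := fun W k l h => by
        refine congrArg ULift.up (yon_ext ((J S).pullback_stable k hR) fun Y f hf => ?_)
        have h1 := congrArg ULift.down (congr(($(q.naturality f.op)) (b W k l h)))
        change ((q.app (op Y)) (F.map f.op (b W k l h))).down = f ≫ _ at h1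
        rw [hb W k l h f hf, Pt.qb] at h1
        refine Eq.trans h1.symm ?_
        show 𝟙 Y ≫ (x (f ≫ k) hf).t = _
        rw [Category.id_comp, ← ht, Category.assoc] }
  refine ⟨z, fun Y f hf => ?_, fun z' hz' => ?_⟩
  · refine Pt.ext' (ht f hf) (ha f hf) fun W k l h h' => ?_
    show b W (k ≫ f) l _ = _
    refine hsep ((J S).pullback_stable (k ≫ f) hR) _ _ fun Y' g hg' => ?_
    rw [hb W _ _ _ g hg', (x f hf).nat W Y' g k l _ (by rw [Category.assoc, h', Category.assoc])]
    refine (Pt.b_congr (y := Pt.res (g ≫ k) (x f hf)) ?_ rfl rfl _ (by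
      show 𝟙 Y' ≫ (g ≫ k) ≫ (x f hf).a = _
      rw [Category.id_comp, Category.assoc, h', Category.assoc])).trans (Pt.b_congr rfl (Category.id_comp _) rfl _ _)
    rw [← hg]
    congr 1
  · have e1 : z'.t = t := yon_ext hR fun Y f hf => (congrArg Pt.t (hz' f hf)).trans (ht f hf).symm
    have e2 : z'.a = a := yon_ext hR fun Y f hf => (congrArg Pt.a (hz' f hf)).trans (ha f hf).symm
    refine Pt.ext' e1 e2 fun W k l h h' => ?_
    refine hbu W k l h' _ fun Y f hf => ?_
    rw [z'.nat W Y f k l h (by rw [Category.assoc, h, Category.assoc])]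
    refine (Pt.b_congr rfl (Category.id_comp _).symm rfl _ (by
      rw [Category.id_comp, Category.assoc, h, Category.assoc])).trans ?_
    exact Pt.b_congr (x := Pt.res (f ≫ k) z') (hz' (f ≫ k) hf) rfl rfl (by
      show 𝟙 Y ≫ (f ≫ k) ≫ z'.a = _
      rw [Category.id_comp, Category.assoc, h, Category.assoc]) _

section Split

/-- Fibre powers over `V`, times `U`. -/
theorem exists_pow (F : Sp S) (hF : IsAlgSpace F) (q : F ⟶ (yon S).obj V) (hq : LocP @Smooth q) (U : Over S)
    [Smooth U.hom] (n : ℕ) :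
    ∃ (P : Sp S) (t : P ⟶ (yon S).obj V) (u : P ⟶ (yon S).obj U) (f : Fin n → (P ⟶ F)),
      IsAlgSpace P ∧ LocP @Smooth t ∧ (∀ i, f i ≫ q = t) ∧
      ∀ (T : Sp S) (t' : T ⟶ (yon S).obj V) (u' : T ⟶ (yon S).obj U) (f' : Fin n → (T ⟶ F)),
        (∀ i, f' i ≫ q = t') → ∃! x : T ⟶ P, x ≫ t = t' ∧ x ≫ u = u' ∧ ∀ i, x ≫ f i = f' i := by
  induction n with
  | zero =>
    let W : Over S := Over.mk (pullback.fst V.hom U.hom ≫ V.hom)
    let pr : W ⟶ V := Over.homMk (pullback.fst V.hom U.hom) rfl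
    let pu : W ⟶ U := Over.homMk (pullback.snd V.hom U.hom) (pullback.condition (f := V.hom) (g := U.hom)).symm
    have sq : ∀ (T : Over S) (a : T ⟶ V) (b : T ⟶ U), ∃! x : T ⟶ W, x ≫ pr = a ∧ x ≫ pu = b := fun T a b => by
      refine ⟨Over.homMk (pullback.lift a.left b.left ((Over.w a).trans (Over.w b).symm))
        (show pullback.lift a.left b.left _ ≫ pullback.fst V.hom U.hom ≫ V.hom = T.hom by
          rw [pullback.lift_fst_assoc]; exact Over.w a),
        ⟨Over.OverMorphism.ext (pullback.lift_fst _ _ _), Over.OverMorphism.ext (pullback.lift_snd _ _ _)⟩,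
        fun y ⟨h1, h2⟩ => Over.OverMorphism.ext (pullback.hom_ext ?_ ?_)⟩
      · exact (congrArg CommaMorphism.left h1).trans (pullback.lift_fst _ _ _).symm
      · exact (congrArg CommaMorphism.left h2).trans (pullback.lift_snd _ _ _).symm
    have hpr : Smooth pr.left := inferInstanceAs (Smooth (pullback.fst V.hom U.hom))
    refine ⟨(yon S).obj W, (yon S).map pr, (yon S).map pu, Fin.elim0, IsAlgSpace.yon_obj W,
      locP_of_repWith ((repWith_yon_map_iff _ _).2 hpr), fun i => i.elim0, fun T t' u' f' _ => ?_⟩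
    let Φ : ∀ X, ((yon S).obj X ⟶ T) → ((yon S).obj X ⟶ (yon S).obj W) := fun X x =>
      (yon S).map (sq X ((yon S).preimage (x ≫ t')) ((yon S).preimage (x ≫ u'))).choose
    have hΦ : ∀ X x, Φ X x ≫ (yon S).map pr = x ≫ t' ∧ Φ X x ≫ (yon S).map pu = x ≫ u' := fun X x => by
      obtain ⟨h1, h2⟩ := (sq X ((yon S).preimage (x ≫ t')) ((yon S).preimage (x ≫ u'))).choose_spec.1
      constructor
      · rw [← Functor.map_comp, h1, Functor.map_preimage]
      · rw [← Functor.map_comp, h2, Functor.map_preimage]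
    have huniq : ∀ X (a b : (yon S).obj X ⟶ (yon S).obj W), a ≫ (yon S).map pr = b ≫ (yon S).map pr →
        a ≫ (yon S).map pu = b ≫ (yon S).map pu → a = b := fun X a b h1 h2 => by
      obtain ⟨a, rfl⟩ := (yon S).map_surjective a
      obtain ⟨b, rfl⟩ := (yon S).map_surjective b
      rw [← Functor.map_comp, ← Functor.map_comp] at h1 h2
      exact congrArg (yon S).map ((sq X (b ≫ pr) (b ≫ pu)).unique
        ⟨(yon S).map_injective h1, (yon S).map_injective h2⟩ ⟨rfl, rfl⟩)
    have hΦn : ∀ ⦃X Y : Over S⦄ (k : X ⟶ Y) (x : (yon S).obj Y ⟶ T), Φ X ((yon S).map k ≫ x) = (yon S).map k ≫ Φ Y x :=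
      fun X Y k x => huniq X _ _ (by rw [(hΦ X _).1, Category.assoc, Category.assoc, (hΦ Y x).1])
        (by rw [(hΦ X _).2, Category.assoc, Category.assoc, (hΦ Y x).2])
    refine ⟨AlgStLib.SheafGlue.homOfPoints Φ hΦn, ⟨?_, ?_, fun i => i.elim0⟩, fun y hy => ?_⟩
    · exact AlgStLib.SheafGlue.hom_ext_points fun X x => by
        rw [← Category.assoc, AlgStLib.SheafGlue.comp_homOfPoints, (hΦ X x).1]
    · exact AlgStLib.SheafGlue.hom_ext_points fun X x => by
        rw [← Category.assoc, AlgStLib.SheafGlue.comp_homOfPoints, (hΦ X x).2]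
    · refine AlgStLib.SheafGlue.hom_ext_points fun X x => ?_
      rw [AlgStLib.SheafGlue.comp_homOfPoints]
      exact huniq X _ _ (by rw [Category.assoc, hy.1, (hΦ X x).1]) (by rw [Category.assoc, hy.2.1, (hΦ X x).2])
  | succ n ih =>
    obtain ⟨P, t, u, f, hP, ht, hf, huniv⟩ := ih
    have hV := IsAlgSpace.yon_obj (S := S) V
    let Q : Sp S := pullback t q
    have hQ : IsAlgSpace Q := isAlgSpace_pullback hP hF hV t q
    refine ⟨Q, pullback.fst t q ≫ t, pullback.fst t q ≫ u, Fin.cases (pullback.snd t q) fun i => pullback.fst t q ≫ f i,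
      hQ, locP_comp hQ hP hV (locP_of_isPullback (IsPullback.of_hasPullback t q).flip hF hV hP hq) ht,
      Fin.cases pullback.condition.symm fun i => by simp [hf], fun T t' u' f' hf' => ?_⟩
    obtain ⟨x, ⟨h1, h2, h3⟩, hx⟩ := huniv T t' u' (fun i => f' i.succ) (fun i => hf' _)
    refine ⟨pullback.lift x (f' 0) (h1.trans (hf' 0).symm), ⟨by rw [pullback.lift_fst_assoc, h1],
      by rw [pullback.lift_fst_assoc, h2], Fin.cases (by simp) fun i => by simp [h3]⟩, fun y ⟨g1, g2, g3⟩ => ?_⟩
    apply pullback.hom_ext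
    · rw [pullback.lift_fst]
      exact hx _ ⟨by rw [Category.assoc, g1], by rw [Category.assoc, g2], fun i => by
        have := g3 i.succ
        rw [Category.assoc]
        exact this⟩
    · rw [pullback.lift_snd]
      exact g3 0

/-- A split cover of a finite morphism: sections over `U` which jointly exhaust and are disjoint. -/
structure Split (p : D' ⟶ D) where
  /-- the cover -/
  U : Over S
  /-- the map of the cover -/
  v : U ⟶ D
  smooth : Smooth U.hom
  etale : Etale v.left
  surj : Surjective v.left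
  /-- the number of sheets -/
  n : ℕ
  /-- the sections -/
  σ : Fin n → (U ⟶ D')
  hσ : ∀ j, σ j ≫ p = v
  cover : ∀ (W : Over S) (k : W ⟶ U) (l : W ⟶ D'), k ≫ v = l ≫ p →
    ∃ R ∈ J S W, ∀ ⦃Y : Over S⦄ (g : Y ⟶ W), R g → ∃ j, g ≫ l = g ≫ k ≫ σ j
  disjoint : ∀ (W : Over S) (k : W ⟶ U) (i j : Fin n), k ≫ σ i = k ≫ σ j → i = j ∨ IsEmpty ↥W.left

variable (P : Split p) (F : Sp S) (q : F ⟶ (yon S).obj V)

theorem elt_eq_of_isEmpty {F : Sp S} {W : Over S} [IsEmpty ↥W.left] (a b : F.obj.obj (op W)) : a = b :=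
  (J S).uliftYonedaEquiv.symm.injective (hom_ext_of_isEmpty _ _)

include P in
/-- Over a split cover a section is a tuple of sections. -/
theorem existsUnique_split {T : Over S} (u : T ⟶ P.U) (t : T ⟶ V) (f : Fin P.n → F.obj.obj (op T))
    (hf : ∀ j, q.hom.app (op T) (f j) = ⟨t⟩) :
    ∃! x : Pt p F.obj q.hom T, x.t = t ∧ x.a = u ≫ P.v ∧
      ∀ j (h : 𝟙 T ≫ x.a = (u ≫ P.σ j) ≫ p), x.b T (𝟙 T) (u ≫ P.σ j) h = f j := by
  have hF : Presieve.IsSheaf (J S) F.obj := (isSheaf_iff_isSheaf_of_type _ _).1 F.property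
  choose R hR hRj using fun (W : Over S) (k : W ⟶ T) (l : W ⟶ D') (h : k ≫ u ≫ P.v = l ≫ p) =>
    P.cover W (k ≫ u) l (by rw [Category.assoc]; exact h)
  choose j hj using hRj
  have hwd : ∀ {Y : Over S} (g : Y ⟶ T) (i i' : Fin P.n), g ≫ u ≫ P.σ i = g ≫ u ≫ P.σ i' →
      F.obj.map g.op (f i) = F.obj.map g.op (f i') := fun {Y} g i i' h => by
    rcases P.disjoint Y (g ≫ u) i i' (by rw [Category.assoc, h, Category.assoc]) with rfl | he
    · rfl
    · exact elt_eq_of_isEmpty _ _
  let fam : ∀ (W : Over S) (k : W ⟶ T) (l : W ⟶ D') (h : k ≫ u ≫ P.v = l ≫ p),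
      Presieve.FamilyOfElements F.obj (R W k l h).arrows := fun W k l h Y g hg =>
    F.obj.map (g ≫ k).op (f (j W k l h g hg))
  have hfam : ∀ W k l h, (fam W k l h).Compatible := fun W k l h => by
    rw [Presieve.compatible_iff_sieveCompatible]
    intro Y Y' g g' hg
    refine (hwd _ _ (j W k l h g hg) ?_).trans ?_
    · have h1 := hj W k l h (g' ≫ g) ((R W k l h).downward_closed hg g')
      have h2 := congrArg (g' ≫ ·) (hj W k l h g hg)
      simp only [Category.assoc] at h1 h2 ⊢
      rw [← h1, ← h2]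
    · show F.obj.map ((g' ≫ g) ≫ k).op _ = F.obj.map g'.op (F.obj.map (g ≫ k).op _)
      rw [← FunctorToTypes.map_comp_apply, ← op_comp, Category.assoc]
  choose b hb hbu using fun W k l h => hF _ (hR W k l h) (fam W k l h) (hfam W k l h)
  have hsep : ∀ {W : Over S} {R' : Sieve W}, R' ∈ J S W → ∀ s s' : F.obj.obj (op W),
      (∀ ⦃Y : Over S⦄ (g : Y ⟶ W), R' g → F.obj.map g.op s = F.obj.map g.op s') → s = s' :=
    fun hR' s s' h => (hF _ hR').isSeparatedFor.ext h
  let x : Pt p F.obj q.hom T :=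
    { t := t, a := u ≫ P.v, b := b
      nat := fun W W' g k l h h' => by
        refine hsep ((J S).intersection_covering (hR W' _ _ h') ((J S).pullback_stable g (hR W k l h))) _ _
          fun Y g' hg' => ?_
        rw [hb W' _ _ h' g' hg'.1, ← FunctorToTypes.map_comp_apply, ← op_comp, hb W k l h (g' ≫ g) hg'.2]
        show F.obj.map ((g' ≫ g) ≫ k).op _ = F.obj.map (g' ≫ g ≫ k).op _
        rw [Category.assoc]
        refine hwd _ _ _ ?_
        have h1 := hj W' _ _ h' g' hg'.1
        have h2 := hj W k l h (g' ≫ g) hg'.2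
        simp only [Category.assoc] at h1 h2 ⊢
        rw [← h1, ← h2]
      qb := fun W k l h => by
        refine congrArg ULift.up (yon_ext (hR W k l h) fun Y g hg => ?_)
        have h1 := congrArg ULift.down (congr(($(q.hom.naturality g.op)) (b W k l h)))
        change (q.hom.app (op Y) (F.obj.map g.op (b W k l h))).down = g ≫ _ at h1
        rw [hb W k l h g hg] at h1
        refine Eq.trans h1.symm ?_
        have h2 := congrArg ULift.down (congr(($(q.hom.naturality (g ≫ k).op)) (f (j W k l h g hg))))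
        change (q.hom.app (op Y) (F.obj.map (g ≫ k).op _)).down = (g ≫ k) ≫ (q.hom.app (op T) _).down at h2
        rw [show q.hom.app (op T) (f _) = ⟨t⟩ from hf _] at h2
        exact h2.trans (Category.assoc _ _ _) }
  refine ⟨x, ⟨rfl, rfl, fun i h => ?_⟩, fun y ⟨h1, h2, h3⟩ => ?_⟩
  · refine (hbu _ _ _ h (f i) fun Y g hg => ?_).symm
    show F.obj.map g.op (f i) = F.obj.map (g ≫ 𝟙 T).op _
    rw [Category.comp_id]
    refine hwd g _ _ ?_
    have := hj _ _ _ h g hg
    rw [Category.id_comp] at this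
    exact this
  · refine Pt.ext' h1 h2 fun W k l h h' => hbu W k l h' _ fun Y g hg => ?_
    rw [y.nat W Y g k l h (by rw [Category.assoc, h, Category.assoc])]
    show _ = F.obj.map (g ≫ k).op (f _)
    have e : 𝟙 T ≫ y.a = (u ≫ P.σ (j W k l h' g hg)) ≫ p := by
      rw [Category.id_comp, h2, Category.assoc, P.hσ]
    rw [← h3 _ e, y.nat T Y (g ≫ k) (𝟙 T) _ e (by simp only [Category.assoc]; rw [e, Category.assoc])]
    refine Pt.b_congr rfl (Category.comp_id _).symm ?_ _ _
    rw [hj W k l h' g hg]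
    simp only [Category.assoc]

include P in
/-- The restriction of scalars is an algebraic space, smooth over `V`. -/
theorem resPsh_space (hF : IsAlgSpace F) (hq : LocP @Smooth q) :
    ∃ h : Presheaf.IsSheaf (J S) (resPsh p F.obj q.hom), IsAlgSpace (⟨_, h⟩ : Sp S) ∧
      LocP @Smooth (ObjectProperty.homMk (resToV p F.obj q.hom) : (⟨_, h⟩ : Sp S) ⟶ (yon S).obj V) := by
  have hG : Presheaf.IsSheaf (J S) (resPsh p F.obj q.hom) :=
    (isSheaf_iff_isSheaf_of_type _ _).2 (isSheaf_resPsh ((isSheaf_iff_isSheaf_of_type _ _).1 F.property))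
  haveI := P.smooth
  haveI := P.etale
  haveI := P.surj
  obtain ⟨H, tH, uH, fH, hH, htH, hfH, huniv⟩ := exists_pow F hF q hq P.U P.n
  have hsec : ∀ T : (Over S)ᵒᵖ, ∀ s : H.obj.obj T, ∃! x : Pt p F.obj q.hom T.unop,
      x.t = (tH.hom.app T s).down ∧ x.a = (uH.hom.app T s).down ≫ P.v ∧
      ∀ j (h : 𝟙 T.unop ≫ x.a = ((uH.hom.app T s).down ≫ P.σ j) ≫ p),
        x.b T.unop (𝟙 _) ((uH.hom.app T s).down ≫ P.σ j) h = (fH j).hom.app T s := fun T s =>
    existsUnique_split P F q _ _ _ fun j => by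
      show ((fH j ≫ q).hom.app T s) = _
      rw [hfH]; rfl
  choose c hc hcu using hsec
  let fst : H.obj ⟶ resPsh p F.obj q.hom :=
    { app := fun T => ↾(c T)
      naturality := fun T T' g => by
        ext s
        show c T' (H.obj.map g s) = Pt.res g.unop (c T s)
        have et := congrArg ULift.down (congr(($(tH.hom.naturality g)) s))
        have eu := congrArg ULift.down (congr(($(uH.hom.naturality g)) s))
        change (tH.hom.app T' (H.obj.map g s)).down = g.unop ≫ (tH.hom.app T s).down at et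
        change (uH.hom.app T' (H.obj.map g s)).down = g.unop ≫ (uH.hom.app T s).down at eu
        refine (hcu T' (H.obj.map g s) _ ⟨?_, ?_, fun j h => ?_⟩).symm
        · exact (congrArg (g.unop ≫ ·) (hc T s).1).trans et.symm
        · rw [eu, Category.assoc]
          exact congrArg (g.unop ≫ ·) (hc T s).2.1
        · have ef : (fH j).hom.app T' (H.obj.map g s) = F.obj.map g ((fH j).hom.app T s) :=
            congr(($((fH j).hom.naturality g)) s)
          have e : 𝟙 T.unop ≫ (c T s).a = ((uH.hom.app T s).down ≫ P.σ j) ≫ p := by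
            rw [Category.id_comp, (hc T s).2.1, Category.assoc, P.hσ]
          rw [ef, ← (hc T s).2.2 j e]
          refine Eq.trans ?_ ((c T s).nat _ _ g.unop (𝟙 _) _ e (by simp only [Category.assoc]; rw [e]; simp)).symm
          exact Pt.b_congr rfl ((Category.id_comp _).trans (Category.comp_id _).symm) (by rw [eu, Category.assoc]) _ _ }
  have sq : IsPullback fst uH.hom (resToD p F.obj q.hom) ((pyon S).map P.v) := by
    refine IsPullback.of_forall_isPullback_app fun T => ?_
    rw [Types.isPullback_iff]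
    refine ⟨by ext s; exact congrArg ULift.up (hc T s).2.1, fun s s' ⟨h1, h2⟩ => ?_, fun x₂ x₃ hx => ?_⟩
    · refine ((J S).uliftYonedaEquiv.{u + 1}.symm :
        H.obj.obj (op T.unop) ≃ ((yon S).obj T.unop ⟶ H)).injective ?_
      have ht' : tH.hom.app T s = tH.hom.app T s' := congrArg ULift.up
        ((hc T s).1.symm.trans ((congrArg Pt.t (h1 : c T s = c T s')).trans (hc T s').1))
      have hf' : ∀ j, (fH j).hom.app T s = (fH j).hom.app T s' := fun j => by
        have e : 𝟙 T.unop ≫ (c T s).a = ((uH.hom.app T s).down ≫ P.σ j) ≫ p := by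
          rw [Category.id_comp, (hc T s).2.1, Category.assoc, P.hσ]
        have e' : 𝟙 T.unop ≫ (c T s').a = ((uH.hom.app T s').down ≫ P.σ j) ≫ p := by
          rw [Category.id_comp, (hc T s').2.1, Category.assoc, P.hσ]
        rw [← (hc T s).2.2 j e, ← (hc T s').2.2 j e']
        exact Pt.b_congr (h1 : c T s = c T s') rfl (by rw [h2]) _ _
      refine (huniv _ (((J S).uliftYonedaEquiv.symm s) ≫ tH) (((J S).uliftYonedaEquiv.symm s) ≫ uH)
        (fun j => ((J S).uliftYonedaEquiv.symm s) ≫ fH j) fun j => by rw [Category.assoc, hfH]).unique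
        ⟨rfl, rfl, fun _ => rfl⟩ ⟨?_, ?_, fun j => ?_⟩
      all_goals apply (J S).uliftYonedaEquiv.injective
      all_goals rw [GrothendieckTopology.uliftYonedaEquiv_comp, GrothendieckTopology.uliftYonedaEquiv_comp,
        Equiv.apply_symm_apply, Equiv.apply_symm_apply]
      exacts [ht'.symm, h2.symm, (hf' j).symm]
    · have ha : Pt.a x₂ = x₃.down ≫ P.v := congrArg ULift.down hx
      let f : Fin P.n → F.obj.obj T := fun j =>
        x₂.b T.unop (𝟙 _) (x₃.down ≫ P.σ j) (by rw [Category.id_comp, ha, Category.assoc, P.hσ])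
      have hqf : ∀ j, q.hom.app T (f j) = ⟨Pt.t x₂⟩ := fun j => by
        refine (Pt.qb x₂ _ _ _ _).trans ?_
        rw [Category.id_comp]
      obtain ⟨m, ⟨m1, m2, m3⟩, -⟩ := huniv ((yon S).obj T.unop) ((yon S).map (Pt.t x₂)) ((yon S).map x₃.down)
        (fun j => (J S).uliftYonedaEquiv.symm (f j)) fun j => by
          apply (J S).uliftYonedaEquiv.injective
          rw [GrothendieckTopology.uliftYonedaEquiv_comp, Equiv.apply_symm_apply]
          refine (hqf j).trans ?_
          exact congrArg ULift.up (Category.id_comp _).symm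
      let s := (J S).uliftYonedaEquiv m
      have n1 : (tH.hom.app T s).down = Pt.t x₂ := by
        have h := congrArg (J S).uliftYonedaEquiv m1
        rw [GrothendieckTopology.uliftYonedaEquiv_comp] at h
        refine (congrArg ULift.down h).trans ?_
        exact Category.id_comp (Pt.t x₂)
      have n2 : (uH.hom.app T s).down = x₃.down := by
        have h := congrArg (J S).uliftYonedaEquiv m2
        rw [GrothendieckTopology.uliftYonedaEquiv_comp] at h
        refine (congrArg ULift.down h).trans ?_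
        exact Category.id_comp x₃.down
      refine ⟨s, (hcu T s x₂ ⟨n1.symm, ?_, fun j h => ?_⟩).symm, congrArg ULift.up n2⟩
      · rw [n2]; exact ha
      · have := congrArg (J S).uliftYonedaEquiv (m3 j)
        rw [GrothendieckTopology.uliftYonedaEquiv_comp, Equiv.apply_symm_apply] at this
        exact (Pt.b_congr rfl rfl (by rw [n2]) _ _).trans this.symm
  have hHP : IsAlgSpaceP H.obj := (isAlgSpaceP_obj_iff _).2 hH
  haveI : Smooth P.v.left := inferInstance
  obtain ⟨h', hA⟩ := AlgStLib.isAlgSpaceP_of_smooth_baseChange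
    ((isSheaf_iff_isSheaf_of_type _ _).2 (Presieve.isSheaf_of_le _ AlgStLib.jEtale_le_jFppf
      ((isSheaf_iff_isSheaf_of_type _ _).1 hG))) P.v (resToD p F.obj q.hom)
    (hHP.of_iso sq.isoPullback)
  let G : Sp S := ⟨_, h'⟩
  refine ⟨h', hA, ?_⟩
  let fst' : H ⟶ G := ObjectProperty.homMk fst
  have sq' : IsPullback fst' uH (ObjectProperty.homMk (resToD p F.obj q.hom) : G ⟶ (yon S).obj D) ((yon S).map P.v) :=
    IsPullback.of_map_of_faithful (sheafToPresheaf (J S) (Type (u + 1))) sq
  have he : RepWith @Etale fst' := repWith_of_isPullback sq'.flip ((repWith_yon_map_iff _ _).2 ‹Etale P.v.left›)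
  have hs : RepWith @Surjective fst' :=
    repWith_of_isPullback sq'.flip ((repWith_yon_map_iff _ _).2 ‹Surjective P.v.left›)
  obtain ⟨A, c₀, hc₀, hc₀'⟩ := hH.atlas
  refine AlgSpDec.locP_of_precomp (repWith_comp hc₀ he) (repWith_comp hc₀' hs) ?_
  have e : fst' ≫ (ObjectProperty.homMk (resToV p F.obj q.hom) : G ⟶ (yon S).obj V) = tH := by
    refine ObjectProperty.hom_ext _ (NatTrans.ext (funext fun T => ?_))
    ext s
    exact congrArg ULift.up (hc T s).1
  rw [Category.assoc, e]
  exact locP_comp (IsAlgSpace.yon_obj A) hH (IsAlgSpace.yon_obj V)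
    (locP_mono (Q := @Smooth) (fun _ _ f (_ : Etale f) => inferInstanceAs (Smooth f))
      (locP_of_repWith hc₀)) htH

end Split

end Groth.Agent.StChart
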